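/-
The group `Ω⁻₄(2)` on codes (helper16).

* `enc`, `appC`, `mulC` : vectors, maps and products as numbers
* `omList` : the sixty maps; facts checked by evaluation
-/
import Cfsg.Agent.Lib.SuzType.Mid

set_option autoImplicit false
set_option maxRecDepth 100000

namespace Cfsg.Agent.SuzUnique

open Cfsg.Agent.SuzType

/-- A bit. -/
def eb (t : ZMod 2) : ℕ := if t = 0 then 0 else 1

/-- The code of a vector. -/
def enc (a : U4) : ℕ := eb (a 0) + 2 * eb (a 1) + 4 * eb (a 2) + 8 * eb (a 3)

/-- One summand of `appC`. -/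
def bitPart (t v : ℕ) : ℕ := bif Nat.beq t 1 then v else 0

/-- Apply a coded map to a coded vector. -/
def appC (n x : ℕ) : ℕ :=
  Nat.xor (bitPart (x % 2) (n % 16))
    (Nat.xor (bitPart (x / 2 % 2) (n / 16 % 16))
      (Nat.xor (bitPart (x / 4 % 2) (n / 256 % 16)) (bitPart (x / 8 % 2) (n / 4096 % 16))))

/-- The product of coded maps. -/
def mulC (n m : ℕ) : ℕ :=
  appC n (m % 16) + 16 * appC n (m / 16 % 16) + 256 * appC n (m / 256 % 16) +
    4096 * appC n (m / 4096 % 16)

/-- The third power. -/
def cubeC (n : ℕ) : ℕ := mulC n (mulC n n)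

/-- The fifth power. -/
def fifthC (n : ℕ) : ℕ := mulC n (mulC n (mulC n (mulC n n)))

/-- The code of the identity. -/
def oneC : ℕ := 33825

/-- The sixty maps. -/
def omList : List ℕ := [13759, 14075, 14839, 14975, 15739, 16055, 18450, 18711, 19058, 19489, 19825, 20007,
  21499, 22207, 22555, 22815, 23793, 23985, 25535, 26107, 26802, 27378, 27695, 28203,
  33825, 34225, 34347, 35858, 36123, 36530, 37759, 38001, 38385, 39671, 39967, 40215,
  41975, 42023, 42543, 43391, 44274, 44658, 50194, 50463, 50930, 51233, 51697, 51759,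
  54199, 54295, 54555, 55473, 55665, 56955, 58235, 58482, 59058, 59435, 59943, 60855]

/-- The products of two reflections. -/
def omPairs : List ℕ := [14839, 14975, 18450, 19489, 19825, 20007, 21499, 22815, 23793, 23985, 25535, 27378,
  27695, 28203, 33825, 34225, 34347, 35858, 36123, 36530, 38001, 38385, 42023, 42543,
  50194, 51233, 51697, 51759, 54295, 55473, 55665, 56955, 58482, 59435, 59943, 60855]

/-- The standard basis. -/
def b0v : U4 := ![1, 0, 0, 0]
/-- See `b0v`. -/
def b1v : U4 := ![0, 1, 0, 0]
/-- See `b0v`. -/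
def b2v : U4 := ![0, 0, 1, 0]
/-- See `b0v`. -/
def b3v : U4 := ![0, 0, 0, 1]

/-- The code of a map. -/
def codeF (f : U4 → U4) : ℕ := enc (f b0v) + 16 * enc (f b1v) + 256 * enc (f b2v) + 4096 * enc (f b3v)

theorem enc_lt : ∀ a : U4, enc a < 16 := by decide +kernel
theorem enc_inj : ∀ a b : U4, enc a = enc b → a = b := by decide +kernel
theorem enc_surj : ∀ x < 16, ∃ a : U4, enc a = x := by decide +kernel
theorem enc_zero : enc 0 = 0 := by decide +kernel
theorem enc_add : ∀ a b : U4, enc (a + b) = Nat.xor (enc a) (enc b) := by decide +kernel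
theorem codeF_id : codeF (fun a => a) = oneC := by decide +kernel

theorem digits {a b c d : ℕ} (ha : a < 16) (hb : b < 16) (hc : c < 16) (hd : d < 16) :
    (a + 16 * b + 256 * c + 4096 * d) % 16 = a ∧ (a + 16 * b + 256 * c + 4096 * d) / 16 % 16 = b ∧
      (a + 16 * b + 256 * c + 4096 * d) / 256 % 16 = c ∧
        (a + 16 * b + 256 * c + 4096 * d) / 4096 % 16 = d := by
  omega

theorem enc_smul (t : ZMod 2) (u : U4) : enc (t • u) = bitPart (eb t) (enc u) := by
  rcases z2 t with rfl | rfl
  · rw [zero_smul, enc_zero]; rfl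
  · rw [one_smul]; rfl

theorem enc_bits : ∀ a : U4, enc a % 2 = eb (a 0) ∧ enc a / 2 % 2 = eb (a 1) ∧ enc a / 4 % 2 = eb (a 2) ∧
    enc a / 8 % 2 = eb (a 3) := by decide +kernel

theorem basis_dec : ∀ a : U4, a = a 0 • b0v + (a 1 • b1v + (a 2 • b2v + a 3 • b3v)) := by decide +kernel

/-- A coded additive map is applied by `appC`. -/
theorem appC_codeF {f : U4 → U4} (h0 : f 0 = 0) (hadd : ∀ a b, f (a + b) = f a + f b) (a : U4) :
    appC (codeF f) (enc a) = enc (f a) := by
  obtain ⟨d0, d1, d2, d3⟩ := digits (enc_lt (f b0v)) (enc_lt (f b1v)) (enc_lt (f b2v)) (enc_lt (f b3v))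
  obtain ⟨b0, b1, b2, b3⟩ := enc_bits a
  have hs : ∀ (t : ZMod 2) (u : U4), f (t • u) = t • f u := by
    intro t u
    rcases z2 t with rfl | rfl
    · rw [zero_smul, h0, zero_smul]
    · rw [one_smul, one_smul]
  conv_rhs =>
    rw [basis_dec a, hadd, hadd, hadd, hs, hs, hs, hs, enc_add, enc_add, enc_add, enc_smul, enc_smul,
      enc_smul, enc_smul]
  unfold appC
  rw [b0, b1, b2, b3]
  unfold codeF
  rw [d0, d1, d2, d3]

theorem codeF_comp {f g : U4 → U4} (h0 : f 0 = 0) (hadd : ∀ a b, f (a + b) = f a + f b) :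
    codeF (fun a => f (g a)) = mulC (codeF f) (codeF g) := by
  obtain ⟨d0, d1, d2, d3⟩ := digits (enc_lt (g b0v)) (enc_lt (g b1v)) (enc_lt (g b2v)) (enc_lt (g b3v))
  have h : ∀ m, m = codeF g → mulC (codeF f) m = codeF (fun a => f (g a)) := by
    intro m hm
    show appC (codeF f) (m % 16) + 16 * appC (codeF f) (m / 16 % 16) +
      256 * appC (codeF f) (m / 256 % 16) + 4096 * appC (codeF f) (m / 4096 % 16) = _
    rw [hm, show codeF g = enc (g b0v) + 16 * enc (g b1v) + 256 * enc (g b2v) + 4096 * enc (g b3v) from rfl,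
      d0, d1, d2, d3, appC_codeF h0 hadd, appC_codeF h0 hadd, appC_codeF h0 hadd, appC_codeF h0 hadd]
    rfl
  exact (h _ rfl).symm

/-- Singular and nonzero. -/
def singC (x : ℕ) : Bool :=
  !Nat.beq x 0 &&
    Nat.beq ((x % 2 * (x / 2 % 2) + x / 4 % 2 + x / 4 % 2 * (x / 8 % 2) + x / 8 % 2) % 2) 0

theorem singC_enc : ∀ a : U4, a ≠ 0 → qU a = 0 → singC (enc a) = true := by decide +kernel

theorem omPairs_mem : ∀ a b : U4, qU a = 1 → qU b = 1 →
    omPairs.contains (codeF (fun u => rU a (rU b u))) = true := by decide +kernel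

theorem omPairs_real : (omPairs.all fun n => decide (∃ a : U4, ∃ b : U4,
    qU a = 1 ∧ qU b = 1 ∧ codeF (fun u => rU a (rU b u)) = n)) = true := by decide +kernel

theorem omList_prod :
    (omList.all fun n => omPairs.any fun x => omPairs.any fun y => Nat.beq (mulC x y) n) = true := by
  decide +kernel

theorem omList_std : ∀ a b : U4, qU a = 1 → qU b = 1 → bU a b = 1 →
    (omList.any fun n => Nat.beq (appC n (enc A0)) (enc a) && Nat.beq (appC n (enc W0)) (enc b)) = true := by
  decide +kernel

theorem omList_nodup : omList.Nodup ∧ omList.length = 60 ∧ oneC ∈ omList := by decide +kernel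

/-- An element of order five moves every nonzero vector and centralises no involution. -/
theorem five_fpf : (omList.all fun k => Nat.beq k oneC || (!Nat.beq (fifthC k) oneC ||
    (((List.range 16).all fun x => Nat.beq x 0 || !Nat.beq (appC k x) x) &&
      omList.all fun i => Nat.beq i oneC || (!Nat.beq (mulC i i) oneC || !Nat.beq (mulC k i) (mulC i k))))) =
      true := by
  decide +kernel

/-- An involution completing a four group to an element of order five. -/
theorem four_gen : (omList.all fun i => Nat.beq i oneC || (!Nat.beq (mulC i i) oneC ||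
    omList.all fun j => Nat.beq j oneC || (Nat.beq j i || (!Nat.beq (mulC j j) oneC ||
      (!Nat.beq (mulC i j) (mulC j i) || omList.any fun k =>
        !Nat.beq k i && (Nat.beq (mulC k k) oneC && (Nat.beq (cubeC (mulC k i)) oneC &&
            ((!Nat.beq (mulC k j) oneC && Nat.beq (fifthC (mulC k j)) oneC) ||
              (!Nat.beq (mulC (mulC k i) j) oneC && Nat.beq (fifthC (mulC (mulC k i) j)) oneC))))))))) =
      true := by
  decide +kernel

/-- In the stabiliser of a singular vector, an element of order three times an involution has order three. -/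
theorem stab_three : (omList.all fun t => Nat.beq t oneC || (!Nat.beq (cubeC t) oneC ||
    omList.all fun s => Nat.beq s oneC || (!Nat.beq (mulC s s) oneC ||
      (List.range 16).all fun x => !singC x || (!Nat.beq (appC t x) x || (!Nat.beq (appC s x) x ||
        Nat.beq (cubeC (mulC t s)) oneC))))) = true := by
  decide +kernel

/-- Two commuting involutions with at most two common fixed vectors act freely. -/
theorem four_free : (omList.all fun i => Nat.beq i oneC || (!Nat.beq (mulC i i) oneC ||
    omList.all fun j => Nat.beq j oneC || (Nat.beq j i || (!Nat.beq (mulC j j) oneC ||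
      (!Nat.beq (mulC i j) (mulC j i) ||
        (!Nat.ble ((List.range 16).countP fun x => Nat.beq (appC i x) x && Nat.beq (appC j x) x) 2 ||
          (List.range 16).all fun p => !Nat.beq (appC i p) p || (List.range 16).all fun q =>
            !Nat.beq (appC j q) q || (!Nat.beq (Nat.xor p (appC j p)) (Nat.xor q (appC i q)) ||
              (List.range 16).any fun m =>
                Nat.beq (Nat.xor m (appC i m)) p && Nat.beq (Nat.xor m (appC j m)) q))))))) = true := by
  decide +kernel

end Cfsg.Agent.SuzUnique
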