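/-
Changing the frame of a group of Suzuki type (helper16).

* `exists_reframe` : every noncentral involution of `Q` is the `v` of a frame at the same `z` and `Q`
* `exists_swap` : an element interchanging `z` and `v`
-/
import Cfsg.Agent.Lib.SuzType.Mid

set_option autoImplicit false

namespace Cfsg.Agent.SuzUnique

open Cfsg.Agent.SuzType Cfsg.Agent.Orth Cfsg.Agent.LargeExtraspecial Cfsg.Agent.LargeExtraspecial.Cfg
open QuadraticMap (polar)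

variable {G : Type*} [Group G]

theorem exists_reframe (F : Fr G) {w : G} (hw : w ∈ F.Q) (h2 : w * w = 1) (h1 : w ≠ 1) (hz : w ≠ F.z) :
    ∃ F' : Fr G, F'.z = F.z ∧ F'.Q = F.Q ∧ F'.v = w := by
  obtain ⟨g, hg, hgw⟩ := F.exists_conj_v hw h2 h1 hz
  have hh : g⁻¹ * F.h * F.T.z * (g⁻¹ * F.h)⁻¹ = w := by
    calc g⁻¹ * F.h * F.T.z * (g⁻¹ * F.h)⁻¹ = g⁻¹ * F.v * g := by group
      _ = w := by rw [← hgw]; group
  let T' := F.T.twist (F.T.ρ g) (F.T.ρ_mem g hg)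
  have hc : T'.c (g⁻¹ * F.h * T'.z * (g⁻¹ * F.h)⁻¹) = v0 := by
    show ap (F.T.ρ g) (F.T.c (g⁻¹ * F.h * F.T.z * (g⁻¹ * F.h)⁻¹)) = v0
    rw [hh, ← F.T.ρ_conj g hg w hw, hgw]
    exact F.cv
  exact ⟨⟨T', g⁻¹ * F.h, by show g⁻¹ * F.h * F.T.z * (g⁻¹ * F.h)⁻¹ ∈ F.T.Q; rw [hh]; exact hw, hc⟩,
    rfl, rfl, hh⟩

theorem exists_swap [Finite G] (F : Fr G) :
    ∃ p : G, p * F.z * p⁻¹ = F.v ∧ p * F.v * p⁻¹ = F.z := by
  have hz' : F.h⁻¹ * F.z * F.h ∈ F.Q := mem_conjS.1 F.cfg.z_mem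
  have h2 : F.h⁻¹ * F.z * F.h * (F.h⁻¹ * F.z * F.h) = 1 := by
    calc F.h⁻¹ * F.z * F.h * (F.h⁻¹ * F.z * F.h) = F.h⁻¹ * (F.z * F.z) * F.h := by group
      _ = 1 := by rw [F.z_sq]; group
  have h1 : F.h⁻¹ * F.z * F.h ≠ 1 := by
    intro e
    refine F.z_ne ?_
    calc F.z = F.h * (F.h⁻¹ * F.z * F.h) * F.h⁻¹ := by group
      _ = 1 := by rw [e]; group
  have hne : F.h⁻¹ * F.z * F.h ≠ F.z := by
    intro e
    refine F.v_ne_z ?_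
    calc F.v = F.h * (F.h⁻¹ * F.z * F.h) * F.h⁻¹ := by rw [e]
      _ = F.z := by group
  obtain ⟨g, hg, hgz⟩ := F.exists_conj_v hz' h2 h1 hne
  refine ⟨F.h * g⁻¹, ?_, ?_⟩
  · calc F.h * g⁻¹ * F.z * (F.h * g⁻¹)⁻¹ = F.h * (g⁻¹ * (F.z * g)) * F.h⁻¹ := by group
      _ = F.v := by rw [← hg, inv_mul_cancel_left]
  · calc F.h * g⁻¹ * F.v * (F.h * g⁻¹)⁻¹
        = F.h * g⁻¹ * (g * (F.h⁻¹ * F.z * F.h) * g⁻¹) * (F.h * g⁻¹)⁻¹ := by rw [hgz]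
      _ = F.z := by group

end Cfsg.Agent.SuzUnique
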