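/-
The centraliser of `z` and of two noncommuting involutions of `Q` (helper16).

* `Pr` : a frame and a partner `g` of `v`; `X` their centraliser
* `cd` : the action on the middle layer, as a code; `cd_mem`, `om_X`, `mem_Q_of_cd`
* `card_pre` : orders of preimages
-/
import Cfsg.Agent.Lib.SuzUnique.Codes
import Cfsg.Agent.Lib.SuzUnique.Reframe

set_option autoImplicit false
open scoped commutatorElement

namespace Cfsg.Agent.SuzUnique

open Cfsg.Agent.SuzType Cfsg.Agent.Orth Cfsg.Agent.LargeExtraspecial Cfsg.Agent.LargeExtraspecial.Cfg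
open QuadraticMap (polar)

variable {G : Type*} [Group G]

/-- A frame with a partner of `v`. -/
structure Pr (G : Type*) [Group G] where
  F : Fr G
  g : G
  hgQ : g ∈ F.Q
  hg2 : g * g = 1
  hgc : cp (F.T.c g) = 1

namespace Pr

variable (P : Pr G)

/-- The centraliser of `z`, `v` and `g`. -/
def X : Subgroup G := P.F.D ⊓ Subgroup.centralizer ({P.g} : Set G)

theorem mem_X {x : G} : x ∈ P.X ↔ x ∈ P.F.D ∧ x * P.g = P.g * x := by
  rw [X, Subgroup.mem_inf, Subgroup.mem_centralizer_singleton_iff]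

theorem gz : P.g * P.F.z = P.F.z * P.g := P.F.T.Qz P.hgQ

theorem g_conj_v : P.g * P.F.v * P.g⁻¹ = P.F.v * P.F.z := by
  have h := P.F.comm_v P.hgQ
  rw [P.hgc, pw_one, commutatorElement_def] at h
  rw [← P.F.zv]
  exact mul_inv_eq_iff_eq_mul.mp h

theorem g_ne : P.g ≠ 1 := by
  intro e
  have h := P.hgc
  rw [e, P.F.T.c_one] at h
  exact zero_ne_one h

theorem z_mem_X : P.F.z ∈ P.X := P.mem_X.2 ⟨P.F.z_mem_D, P.gz.symm⟩

/-- The action on the middle layer, as a code. -/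
noncomputable def cd (x : G) : ℕ := codeF (P.F.phi x)

theorem cd_app (x : G) (α : U4) : appC (P.cd x) (enc α) = enc (P.F.phi x α) :=
  appC_codeF (P.F.phi_zero x) (P.F.phi_add x) α

theorem cd_one : P.cd 1 = oneC := by
  rw [cd, show P.F.phi 1 = fun a => a from funext P.F.phi_one, codeF_id]

theorem phi_of_cd {x y : G} (h : P.cd x = P.cd y) (α : U4) : P.F.phi x α = P.F.phi y α :=
  enc_inj _ _ (by rw [← P.cd_app, ← P.cd_app, h])

theorem phi_of_cd_one {x : G} (h : P.cd x = oneC) (α : U4) : P.F.phi x α = α := by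
  rw [P.phi_of_cd (h.trans P.cd_one.symm) α, P.F.phi_one]

theorem cd_of_phi {x : G} (h : ∀ α, P.F.phi x α = α) : P.cd x = oneC := by
  rw [cd, show P.F.phi x = fun a => a from funext h, codeF_id]

variable [Finite G]

theorem cd_mul {x y : G} (hx : x ∈ P.F.D) (hy : y ∈ P.F.D) :
    P.cd (x * y) = mulC (P.cd x) (P.cd y) := by
  rw [cd, show P.F.phi (x * y) = fun a => P.F.phi x (P.F.phi y a) from funext (P.F.phi_mul hx hy),
    codeF_comp (P.F.phi_zero x) (P.F.phi_add x)]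
  rfl

theorem cd_A {x : G} (hx : x ∈ A P.F.Q P.F.v) : P.cd x = oneC :=
  P.cd_of_phi (Fr.Is.phi P.F (P.F.Is_A hx))

theorem cd_Q {x : G} (hx : x ∈ P.F.D) (hQ : x ∈ P.F.Q) : P.cd x = oneC :=
  P.cd_A (mem_A.mpr ⟨hQ, (P.F.mem_D.1 hx).2⟩)

theorem om_real {n : ℕ} (hn : n ∈ omList) : ∃ d ∈ P.F.D, P.cd d = n := by
  have two : ∀ m ∈ omPairs, ∃ d ∈ P.F.D, P.cd d = m := by
    intro m hm
    obtain ⟨a, b, ha, hb, e⟩ := of_decide_eq_true (List.all_eq_true.mp omPairs_real m hm)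
    obtain ⟨d, hd, hρ⟩ := P.F.exists_D ha hb
    exact ⟨d, hd, by rw [cd, show P.F.phi d = fun u => rU a (rU b u) from
      funext (P.F.phi_refl ha hb hρ), e]⟩
  have h := List.all_eq_true.mp omList_prod n hn
  obtain ⟨m, hm, h⟩ := List.any_eq_true.mp h
  obtain ⟨m', hm', h⟩ := List.any_eq_true.mp h
  obtain ⟨d, hd, rfl⟩ := two m hm
  obtain ⟨d', hd', rfl⟩ := two m' hm'
  exact ⟨d * d', mul_mem hd hd', by rw [P.cd_mul hd hd']; exact Nat.eq_of_beq_eq_true h⟩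

theorem cd_mem {x : G} (hx : x ∈ P.F.D) : P.cd x ∈ omList := by
  have h := omList_std (P.F.phi x A0) (P.F.phi x W0) (by rw [P.F.phi_qU hx, qU_A0])
    (by rw [P.F.phi_qU hx, qU_W0]) (by rw [P.F.phi_bU hx, bU_A0_W0])
  obtain ⟨n, hn, h⟩ := List.any_eq_true.mp h
  rw [Bool.and_eq_true] at h
  obtain ⟨d, hd, rfl⟩ := P.om_real hn
  have e : ∀ α, P.F.phi x α = P.F.phi d α := P.F.phi_eq hx hd
    (enc_inj _ _ (by rw [← Nat.eq_of_beq_eq_true h.1, P.cd_app]))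
    (enc_inj _ _ (by rw [← Nat.eq_of_beq_eq_true h.2, P.cd_app]))
  rwa [cd, show P.F.phi x = P.F.phi d from funext e]

theorem exists_X {d : G} (hd : d ∈ P.F.D) : ∃ x ∈ P.X, P.cd x = P.cd d := by
  obtain ⟨hdz, hdv⟩ := P.F.mem_D.1 hd
  set q := d * P.g * d⁻¹ with hq
  have hqQ : q ∈ P.F.Q := P.F.T.data.norm d hdz _ P.hgQ
  have hqc : cp (P.F.T.c q) = 1 := by rw [P.F.T.ρ_conj d hdz _ P.hgQ, P.F.cp_ap hd, P.hgc]
  have hq2 : q * q = 1 := by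
    calc q * q = d * (P.g * P.g) * d⁻¹ := by rw [hq]; group
      _ = 1 := by rw [P.hg2]; group
  obtain ⟨b, hb, hbθ⟩ := P.F.θ_surj (pu (P.F.T.c P.g) + pu (P.F.T.c q))
  have hbz := (mem_A.mp hb).2
  have hbD := P.F.B_le_D hb
  set q' := b * P.g * b⁻¹ with hq'
  have hq'Q : q' ∈ P.F.Q := P.F.T.data.norm b hbz _ P.hgQ
  have hq'c : cp (P.F.T.c q') = 1 := by rw [P.F.T.ρ_conj b hbz _ P.hgQ, P.F.cp_ap hbD, P.hgc]
  have hpu : pu (P.F.T.c q') = pu (P.F.T.c q) := by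
    rw [P.F.T.ρ_conj b hbz _ P.hgQ, P.F.ap_B hb, P.hgc, one_smul, hbθ, pu_add, pu_add, pu_io, pu_smul,
      pu_v0, smul_zero, add_zero, ← add_assoc, ZModModule.add_self, zero_add]
  have hq'2 : q' * q' = 1 := by
    calc q' * q' = b * (P.g * P.g) * b⁻¹ := by rw [hq']; group
      _ = 1 := by rw [P.hg2]; group
  have hcv : ∀ {y : G}, y ∈ P.F.Q → y * y = 1 → cp (P.F.T.c y) = 1 →
      SuzType.cv (P.F.T.c y) = qU (pu (P.F.T.c y)) := by
    intro y hy h2 hc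
    have h0 : qm (P.F.T.c y) = 0 := pw_inj P.F.z_ne (by rw [← P.F.T.sq y hy, h2, pw_zero])
    rw [qm_eq, hc, mul_one] at h0
    exact add_eq_zero_z2 h0
  have hc : P.F.T.c q' = P.F.T.c q :=
    ext3 (by rw [hcv hq'Q hq'2 hq'c, hcv hqQ hq2 hqc, hpu]) (by rw [hq'c, hqc]) hpu
  have h0 : b⁻¹ * d ∈ P.F.D := mul_mem (inv_mem hbD) hd
  have hcd : P.cd (b⁻¹ * d) = P.cd d := by
    rw [cd, cd]
    congr 1
    funext α
    rw [P.F.phi_mul (inv_mem hbD) hd]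
    exact Fr.Is.phi P.F ⟨1, one_mem _, b⁻¹, inv_mem hb, (one_mul _).symm, rfl, rfl⟩ _
  rcases P.F.T.c_eq hq'Q hqQ hc with e | e
  · refine ⟨b⁻¹ * d, P.mem_X.2 ⟨h0, mul_inv_eq_iff_eq_mul.mp ?_⟩, hcd⟩
    calc b⁻¹ * d * P.g * (b⁻¹ * d)⁻¹ = b⁻¹ * q * b := by rw [hq]; group
      _ = P.g := by rw [e, hq']; group
  · have hvA : P.F.v ∈ A P.F.Q P.F.v := mem_A.mpr ⟨P.F.hv, rfl⟩
    refine ⟨P.F.v * (b⁻¹ * d), P.mem_X.2 ⟨mul_mem P.F.v_mem_D h0, mul_inv_eq_iff_eq_mul.mp ?_⟩, ?_⟩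
    · have e1 : b⁻¹ * d * P.g * (b⁻¹ * d)⁻¹ = P.g * P.F.z := by
        calc b⁻¹ * d * P.g * (b⁻¹ * d)⁻¹ = b⁻¹ * q * b := by rw [hq]; group
          _ = b⁻¹ * (b * P.g * b⁻¹) * (P.F.T.z * b) := by rw [e, hq']; group
          _ = P.g * P.F.z := by rw [← hbz]; group
      have e2 : P.F.v * P.g * P.F.v⁻¹ = P.g * P.F.z := by
        have h := P.g_conj_v
        rw [mul_inv_eq_iff_eq_mul] at h
        calc P.F.v * P.g * P.F.v⁻¹ = P.F.v * P.F.z * (P.F.z * P.g) * P.F.v⁻¹ := by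
              rw [mul_assoc P.F.v P.F.z, ← mul_assoc P.F.z P.F.z P.g, P.F.z_sq, one_mul]
          _ = P.F.v * P.F.z * P.g * (P.F.z * P.F.v⁻¹) := by rw [← P.gz]; group
          _ = P.g * P.F.v * (P.F.v⁻¹ * P.F.z) := by
              rw [← h, ← (Commute.inv_left P.F.zv.symm).eq]
          _ = P.g * P.F.z := by rw [mul_assoc, mul_inv_cancel_left]
      calc P.F.v * (b⁻¹ * d) * P.g * (P.F.v * (b⁻¹ * d))⁻¹
          = P.F.v * (b⁻¹ * d * P.g * (b⁻¹ * d)⁻¹) * P.F.v⁻¹ := by group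
        _ = P.F.v * P.g * P.F.v⁻¹ * (P.F.v * P.F.z * P.F.v⁻¹) := by rw [e1]; group
        _ = P.g := by
          rw [e2, show P.F.v * P.F.z * P.F.v⁻¹ = P.F.z from mul_inv_eq_iff_eq_mul.mpr P.F.zv.symm,
            mul_assoc, P.F.z_sq, mul_one]
    · rw [cd, show P.F.phi (P.F.v * (b⁻¹ * d)) = P.F.phi (b⁻¹ * d) from funext fun α => by
        rw [P.F.phi_mul P.F.v_mem_D h0]; exact Fr.Is.phi P.F (P.F.Is_A hvA) _]
      exact hcd

theorem om_X {n : ℕ} (hn : n ∈ omList) : ∃ x ∈ P.X, P.cd x = n := by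
  obtain ⟨d, hd, rfl⟩ := P.om_real hn
  exact P.exists_X hd

theorem mem_Q_of_cd {x : G} (hx : x ∈ P.X) (h : P.cd x = oneC) : x ∈ P.F.Q := by
  obtain ⟨hxD, hxg⟩ := P.mem_X.1 hx
  obtain ⟨α, β, hI⟩ := P.F.Is_of_phi hxD (P.phi_of_cd_one h)
  obtain ⟨a, ha, b, hb, rfl, -, hbθ⟩ := hI
  have hbz := (mem_A.mp hb).2
  have e : ap (P.F.T.ρ (a * b)) (P.F.T.c P.g) = P.F.T.c P.g := by
    rw [← P.F.T.ρ_conj _ (P.F.mem_D.1 hxD).1 _ P.hgQ, mul_inv_eq_iff_eq_mul.mpr hxg]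
  have hI' : P.F.Is (a * b) (P.F.κ a) β := ⟨a, ha, b, hb, rfl, rfl, hbθ⟩
  have e' := congrArg pu e
  rw [Fr.Is.ap P.F hI', P.hgc, one_smul, pu_add, pu_add, pu_io, pu_smul, pu_v0, smul_zero, add_zero,
    add_eq_left] at e'
  exact mul_mem (mem_A.mp ha).1 (P.F.θ_ker hb (hbθ.trans e')).1

theorem U_eq {x y : G} (hx : x ∈ P.X) (hxQ : x ∈ P.F.Q) (hy : y ∈ P.X) (hyQ : y ∈ P.F.Q)
    (h : P.F.κ x = P.F.κ y) : ∃ i, y = x * pw P.F.z i := by
  have hd : x⁻¹ * y ∈ P.X := mul_mem (inv_mem hx) hy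
  have hdQ : x⁻¹ * y ∈ P.F.Q := mul_mem (inv_mem hxQ) hyQ
  have hdA := (P.F.mem_A_iff.1 (P.F.mem_A_D hdQ (P.F.mem_D.1 (P.mem_X.1 hd).1).2)).2
  obtain ⟨i, j, e⟩ := P.F.inV hdQ hdA (by
    rw [P.F.κ_mul (inv_mem hxQ) hyQ, Fr.κ, P.F.T.c_inv hxQ, ← h, Fr.κ, ZModModule.add_self])
  rcases z2 j with rfl | rfl
  · refine ⟨i, ?_⟩
    rw [← mul_inv_cancel_left x y, e, pw_zero, mul_one]
  · exfalso
    have h1 : pw P.F.z i * P.F.v * P.g = P.g * (pw P.F.z i * P.F.v) := by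
      have := (P.mem_X.1 hd).2
      rwa [e, pw_one] at this
    have h2 : P.F.v * P.g = P.g * P.F.v := by
      refine mul_left_cancel (a := pw P.F.z i) ?_
      rw [← mul_assoc (pw P.F.z i) P.F.v P.g, ← mul_assoc (pw P.F.z i) P.g P.F.v, h1,
        ← mul_assoc P.g (pw P.F.z i) P.F.v, pw_comm P.g P.gz i]
    have h3 := P.g_conj_v
    rw [← h2, mul_inv_cancel_right] at h3
    exact P.F.z_ne (left_eq_mul.mp h3)

theorem U_surj (α : U4) : ∃ x ∈ P.X, x ∈ P.F.Q ∧ P.F.κ x = α := by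
  obtain ⟨x, hx, hc⟩ := P.F.T.c_surj (io α + bU α (pu (P.F.T.c P.g)) • v0)
  have hcp : cp (P.F.T.c x) = 0 := by rw [hc, cp_add, cp_io, zero_add]; simp [cp, v0]
  have hA : x ∈ A P.F.Q P.F.v := P.F.mem_A_iff.2 ⟨hx, hcp⟩
  refine ⟨x, P.mem_X.2 ⟨P.F.A_le_D hA, ?_⟩, hx, ?_⟩
  · rw [← commutatorElement_eq_one_iff_mul_comm, P.F.T.comm_Q hx P.hgQ, polar_eq, hcp, zero_mul,
      add_zero, hc, P.hgc, mul_one, cv_add, cv_io, zero_add, pu_add, pu_io, pu_smul, pu_v0, smul_zero,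
      add_zero, show SuzType.cv (bU α (pu (P.F.T.c P.g)) • v0) = bU α (pu (P.F.T.c P.g)) by
        simp [SuzType.cv, v0], ZModModule.add_self, pw_zero]
  · rw [Fr.κ, hc, pu_add, pu_io, pu_smul, pu_v0, smul_zero, add_zero]

theorem κ_z (i : ZMod 2) : P.F.κ (pw P.F.z i) = 0 := by
  have h := P.F.κ_four i 0
  rwa [pw_zero, mul_one] at h

theorem pw_z_mem_X (i : ZMod 2) : pw P.F.z i ∈ P.X := pw_mem P.z_mem_X i

/-- The preimage of a set of codes. -/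
theorem card_pre (H : Subgroup G) (S : List ℕ) (hS : S.Nodup) (hsub : ∀ n ∈ S, n ∈ omList)
    (hH : ∀ x, x ∈ H ↔ x ∈ P.X ∧ P.cd x ∈ S) : Nat.card H = S.length * 32 := by
  classical
  choose r hrX hrc using fun n : {n // n ∈ S} => P.om_X (hsub n.1 n.2)
  choose s hsX hsQ hsκ using P.U_surj
  have hmem : ∀ q : {n // n ∈ S} × (ZMod 2 × U4), r q.1 * (pw P.F.z q.2.1 * s q.2.2) ∈ P.X ∧
      P.cd (r q.1 * (pw P.F.z q.2.1 * s q.2.2)) = q.1.1 := by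
    intro q
    have hu : pw P.F.z q.2.1 * s q.2.2 ∈ P.X := mul_mem (P.pw_z_mem_X _) (hsX _)
    refine ⟨mul_mem (hrX _) hu, ?_⟩
    have hQ : pw P.F.z q.2.1 * s q.2.2 ∈ P.F.Q := mul_mem (pw_mem P.F.T.data.z_mem _) (hsQ _)
    rw [cd, show P.F.phi (r q.1 * (pw P.F.z q.2.1 * s q.2.2)) = P.F.phi (r q.1) from funext fun α => by
      rw [P.F.phi_mul (P.mem_X.1 (hrX _)).1 (P.mem_X.1 hu).1,
        P.phi_of_cd_one (P.cd_Q (P.mem_X.1 hu).1 hQ)]]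
    exact hrc _
  let f : {n // n ∈ S} × (ZMod 2 × U4) → H := fun q =>
    ⟨_, (hH _).2 ⟨(hmem q).1, by rw [(hmem q).2]; exact q.1.2⟩⟩
  have hf : Function.Bijective f := by
    constructor
    · rintro ⟨n, i, α⟩ ⟨n', i', α'⟩ he
      have he' : r n * (pw P.F.z i * s α) = r n' * (pw P.F.z i' * s α') := congrArg Subtype.val he
      obtain rfl : n = n' := Subtype.ext (by rw [← (hmem (n, i, α)).2, ← (hmem (n', i', α')).2, he'])
      have he2 := mul_left_cancel he'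
      have hκ := congrArg P.F.κ he2
      rw [P.F.κ_mul (pw_mem P.F.T.data.z_mem _) (hsQ _), P.F.κ_mul (pw_mem P.F.T.data.z_mem _) (hsQ _),
        P.κ_z, P.κ_z, zero_add, zero_add, hsκ, hsκ] at hκ
      subst hκ
      obtain rfl := pw_inj P.F.z_ne (mul_right_cancel he2)
      rfl
    · rintro ⟨x, hx⟩
      obtain ⟨hxX, hxS⟩ := (hH x).1 hx
      set n : {n // n ∈ S} := ⟨P.cd x, hxS⟩
      have hy : (r n)⁻¹ * x ∈ P.X := mul_mem (inv_mem (hrX n)) hxX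
      have hyc : P.cd ((r n)⁻¹ * x) = oneC := P.cd_of_phi fun α => by
        rw [P.F.phi_mul (inv_mem (P.mem_X.1 (hrX n)).1) (P.mem_X.1 hxX).1,
          ← P.phi_of_cd (hrc n) α, P.F.phi_inv (P.mem_X.1 (hrX n)).1]
      have hyQ := P.mem_Q_of_cd hy hyc
      obtain ⟨i, e⟩ := P.U_eq (hsX _) (hsQ (P.F.κ ((r n)⁻¹ * x))) hy hyQ (hsκ _)
      refine ⟨(n, i, P.F.κ ((r n)⁻¹ * x)), Subtype.ext ?_⟩
      show r n * (pw P.F.z i * s _) = x
      rw [← pw_comm _ (P.F.T.Qz (hsQ _)) i, ← e, mul_inv_cancel_left]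
  rw [← Nat.card_congr (Equiv.ofBijective f hf), Nat.card_prod, Nat.card_prod, Nat.card_zmod,
    Nat.card_eq_fintype_card, Nat.card_eq_fintype_card, Fintype.card_of_subtype S.toFinset
      (fun n => List.mem_toFinset), List.toFinset_card_of_nodup hS]
  simp

theorem card_X : Nat.card P.X = 1920 := by
  rw [P.card_pre P.X omList omList_nodup.1 (fun _ h => h) (fun x =>
    ⟨fun h => ⟨h, P.cd_mem (P.mem_X.1 h).1⟩, And.left⟩), omList_nodup.2.1]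

end Pr

end Cfsg.Agent.SuzUnique
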