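/-
A complement `A₅` in the centraliser of `z, f, g` (helper16).

* `Pr.UU`, `Pr.κ_conj` : the normal 2-subgroup and the action on it
* `split_fifteen` : Gaschütz at index fifteen
* `Pr.exists_compl` : a complement containing a four group acting with few fixed points
* `Base`, `exists_base`, `Base.exists_H` : the case of a standard involution
-/
import Cfsg.Agent.Lib.SuzUnique.Pair
import Cfsg.Agent.Lib.SuzType.CentZU
import Cfsg.Agent.Lib.Solvable.Gaschutz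

set_option autoImplicit false
open scoped commutatorElement

namespace Cfsg.Agent.SuzUnique

open Cfsg.Agent.SuzType Cfsg.Agent.Orth Cfsg.Agent.LargeExtraspecial Cfsg.Agent.LargeExtraspecial.Cfg
open QuadraticMap (polar)

theorem nbeq_iff {a b : ℕ} : Nat.beq a b = true ↔ a = b :=
  ⟨Nat.eq_of_beq_eq_true, fun h => h ▸ Nat.beq_refl a⟩

theorem nble_iff {a b : ℕ} : Nat.ble a b = true ↔ a ≤ b := Nat.ble_eq ▸ Iff.rfl

/-- Gaschütz at index fifteen. -/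
theorem split_fifteen {M : Type*} [Group M] [Finite M] (K A : Subgroup M) [K.Normal]
    (hab : ∀ x ∈ K, ∀ y ∈ K, x * y = y * x) (hd : ∀ x ∈ A, x ∈ K → x = 1)
    (hcard : Nat.card M = Nat.card K * Nat.card A * 15) (hcop : (Nat.card K).Coprime 15) :
    ∃ H : Subgroup M, Subgroup.IsComplement' K H := by
  haveI : IsMulCommutative K := ⟨⟨fun x y => Subtype.ext (hab _ x.2 _ y.2)⟩⟩
  let f : K × A → (K ⊔ A : Subgroup M) := fun p =>
    ⟨(p.1 : M) * p.2, mul_mem (Subgroup.mem_sup_left p.1.2) (Subgroup.mem_sup_right p.2.2)⟩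
  have hf : Function.Bijective f := by
    constructor
    · rintro ⟨k, a⟩ ⟨k', a'⟩ h
      have h' : (k : M) * a = k' * a' := congrArg Subtype.val h
      have e : (a : M) * (a' : M)⁻¹ = (k : M)⁻¹ * k' := by
        rw [eq_inv_mul_iff_mul_eq, ← mul_assoc, h', mul_inv_cancel_right]
      have h1 := hd _ (mul_mem a.2 (inv_mem a'.2)) (e ▸ mul_mem (inv_mem k.2) k'.2)
      have ha : (a : M) = a' := mul_inv_eq_one.mp h1
      rw [ha] at h'
      exact Prod.ext (Subtype.ext (mul_right_cancel h')) (Subtype.ext ha)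
    · rintro ⟨x, hx⟩
      obtain ⟨k, hk, a, ha, rfl⟩ := Subgroup.mem_sup_of_normal_left.1 hx
      exact ⟨(⟨k, hk⟩, ⟨a, ha⟩), rfl⟩
  have hs : Nat.card (K ⊔ A : Subgroup M) = Nat.card K * Nat.card A := by
    rw [← Nat.card_congr (Equiv.ofBijective f hf), Nat.card_prod]
  have hi : (K ⊔ A : Subgroup M).index = 15 := by
    have h := (K ⊔ A : Subgroup M).card_mul_index
    rw [hs, hcard] at h
    exact Nat.eq_of_mul_eq_mul_left (Nat.mul_pos Nat.card_pos Nat.card_pos) h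
  exact Cfsg.Agent.Solvable.gaschutz_exists (U := K ⊔ A) le_sup_left (hi.symm ▸ hcop)
    (disjoint_iff.1 (Subgroup.disjoint_def.2 fun {x} => hd x)) rfl

variable {G : Type*} [Group G]

/-- The four group on two commuting involutions. -/
def fourSub (u e : G) (hu : u * u = 1) (he : e * e = 1) (hc : u * e = e * u) : Subgroup G where
  carrier := {x | ∃ i j, x = pw u i * pw e j}
  one_mem' := ⟨0, 0, by simp⟩
  mul_mem' := by
    rintro _ _ ⟨i, j, rfl⟩ ⟨k, l, rfl⟩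
    refine ⟨i + k, j + l, ?_⟩
    have hcomm : Commute (pw e j) (pw u k) := by
      rcases z2 j with rfl | rfl <;> rcases z2 k with rfl | rfl <;>
        simp only [pw_zero, pw_one] <;> first
        | exact Commute.one_left _
        | exact Commute.one_right _
        | exact hc.symm
    rw [pw_add hu, pw_add he, mul_assoc, ← mul_assoc (pw e j), hcomm.eq]
    group
  inv_mem' := by
    rintro _ ⟨i, j, rfl⟩
    refine ⟨i, j, ?_⟩
    have hcomm : Commute (pw e j) (pw u i) := by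
      rcases z2 j with rfl | rfl <;> rcases z2 i with rfl | rfl <;>
        simp only [pw_zero, pw_one] <;> first
        | exact Commute.one_left _
        | exact Commute.one_right _
        | exact hc.symm
    rw [mul_inv_rev, pw_inv hu, pw_inv he, hcomm.eq]

namespace Pr

variable (P : Pr G)

/-- The normal 2-subgroup of `X`. -/
def UU : Subgroup G := P.X ⊓ P.F.Q

theorem mem_UU {x : G} : x ∈ P.UU ↔ x ∈ P.X ∧ x ∈ P.F.Q := Subgroup.mem_inf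

theorem UU_A {x : G} (hx : x ∈ P.UU) : x ∈ A P.F.Q P.F.v :=
  P.F.mem_A_D (P.mem_UU.1 hx).2 (P.F.mem_D.1 (P.mem_X.1 (P.mem_UU.1 hx).1).1).2

theorem UU_X {x : G} (hx : x ∈ P.UU) : x ∈ P.X := (P.mem_UU.1 hx).1

theorem X_D {x : G} (hx : x ∈ P.X) : x ∈ P.F.D := (P.mem_X.1 hx).1

theorem z_mem_UU : P.F.z ∈ P.UU := P.mem_UU.2 ⟨P.z_mem_X, P.F.T.data.z_mem⟩

theorem z_comm {x : G} (hx : x ∈ P.X) : x * P.F.z = P.F.z * x := (P.F.mem_D.1 (P.X_D hx)).1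

theorem X_norm_Q {x y : G} (hx : x ∈ P.X) (hy : y ∈ P.F.Q) : x * y * x⁻¹ ∈ P.F.Q :=
  P.F.T.data.norm x (P.z_comm hx) y hy

theorem UU_norm {x s : G} (hx : x ∈ P.X) (hs : s ∈ P.UU) : x * s * x⁻¹ ∈ P.UU :=
  P.mem_UU.2 ⟨mul_mem (mul_mem hx (P.UU_X hs)) (inv_mem hx), P.X_norm_Q hx (P.mem_UU.1 hs).2⟩

variable [Finite G]

theorem κ_zpw (i : ZMod 2) (x : G) (hx : x ∈ P.F.Q) : P.F.κ (x * pw P.F.z i) = P.F.κ x := by
  rw [P.F.κ_mul hx (pw_mem P.F.T.data.z_mem i), P.κ_z, add_zero]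

theorem κ_conj {x s : G} (hx : x ∈ P.X) (hs : s ∈ P.UU) :
    P.F.κ (x * s * x⁻¹) = P.F.phi x (P.F.κ s) :=
  P.F.κ_conj_io (P.X_D hx) (P.UU_A hs)

theorem eq_of_κ {x y : G} (hx : x ∈ P.UU) (hy : y ∈ P.UU) (h : P.F.κ x = P.F.κ y) :
    ∃ i, y = x * pw P.F.z i :=
  P.U_eq (P.UU_X hx) (P.mem_UU.1 hx).2 (P.UU_X hy) (P.mem_UU.1 hy).2 h

theorem UU_surj (α : U4) : ∃ x ∈ P.UU, P.F.κ x = α := by
  obtain ⟨x, h1, h2, h3⟩ := P.U_surj α
  exact ⟨x, P.mem_UU.2 ⟨h1, h2⟩, h3⟩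

theorem card_UU : Nat.card P.UU = 32 := by
  rw [P.card_pre P.UU [oneC] (List.nodup_singleton _) (fun n hn => by
    rw [List.mem_singleton.mp hn]; exact omList_nodup.2.2) fun x => ?_]
  · rfl
  constructor
  · intro hx
    exact ⟨P.UU_X hx, List.mem_singleton.mpr (P.cd_Q (P.X_D (P.UU_X hx)) (P.mem_UU.1 hx).2)⟩
  · rintro ⟨hx, h⟩
    exact P.mem_UU.2 ⟨hx, P.mem_Q_of_cd hx (List.mem_singleton.mp h)⟩

theorem cd_mul_UU {x s : G} (hx : x ∈ P.X) (hs : s ∈ P.UU) : P.cd (x * s) = P.cd x := by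
  rw [cd, cd, show P.F.phi (x * s) = P.F.phi x from funext fun α => by
    rw [P.F.phi_mul (P.X_D hx) (P.X_D (P.UU_X hs)),
      P.phi_of_cd_one (P.cd_A (P.UU_A hs))]]

theorem cd_UU_mul {x s : G} (hx : x ∈ P.X) (hs : s ∈ P.UU) : P.cd (s * x) = P.cd x := by
  rw [cd, cd, show P.F.phi (s * x) = P.F.phi x from funext fun α => by
    rw [P.F.phi_mul (P.X_D (P.UU_X hs)) (P.X_D hx),
      P.phi_of_cd_one (P.cd_A (P.UU_A hs))]]

theorem mem_UU_of_cd {x y : G} (hx : x ∈ P.X) (hy : y ∈ P.X) (h : P.cd x = P.cd y) :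
    x⁻¹ * y ∈ P.UU := by
  have hxy : x⁻¹ * y ∈ P.X := mul_mem (inv_mem hx) hy
  refine P.mem_UU.2 ⟨hxy, P.mem_Q_of_cd hxy (P.cd_of_phi fun α => ?_)⟩
  rw [P.F.phi_mul (inv_mem (P.X_D hx)) (P.X_D hy), ← P.phi_of_cd h α, P.F.phi_inv (P.X_D hx)]

/-- A subgroup of `X` over `⟨z⟩` covering the sixty maps has order 120. -/
theorem card_cover (T : Subgroup G) (hT : T ≤ P.X) (hz : P.F.z ∈ T)
    (hQ : ∀ x ∈ T, x ∈ P.F.Q → ∃ i, x = pw P.F.z i)
    (hon : ∀ n ∈ omList, ∃ x ∈ T, P.cd x = n) : Nat.card T = 120 := by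
  classical
  choose r hrT hrc using fun n : {n // n ∈ omList} => hon n.1 n.2
  let f : {n // n ∈ omList} × ZMod 2 → T := fun q =>
    ⟨r q.1 * pw P.F.z q.2, mul_mem (hrT _) (pw_mem hz _)⟩
  have hc : ∀ (n : {n // n ∈ omList}) (i : ZMod 2), P.cd (r n * pw P.F.z i) = n.1 := fun n i => by
    rw [P.cd_mul_UU (hT (hrT n)) (pw_mem P.z_mem_UU i), hrc]
  have hf : Function.Bijective f := by
    constructor
    · rintro ⟨n, i⟩ ⟨n', i'⟩ he
      have he' : r n * pw P.F.z i = r n' * pw P.F.z i' := congrArg Subtype.val he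
      obtain rfl : n = n' := Subtype.ext (by rw [← hc n i, ← hc n' i', he'])
      exact Prod.ext rfl (pw_inj P.F.z_ne (mul_left_cancel he'))
    · rintro ⟨x, hx⟩
      set n : {n // n ∈ omList} := ⟨P.cd x, P.cd_mem (P.X_D (hT hx))⟩
      have hu := P.mem_UU_of_cd (hT (hrT n)) (hT hx) (hrc n)
      obtain ⟨i, hi⟩ := hQ _ (mul_mem (inv_mem (hrT n)) hx) (P.mem_UU.1 hu).2
      exact ⟨(n, i), Subtype.ext (by show r n * pw P.F.z i = x; rw [← hi, mul_inv_cancel_left])⟩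
  rw [← Nat.card_congr (Equiv.ofBijective f hf), Nat.card_prod, Nat.card_zmod,
    Nat.card_eq_fintype_card, Fintype.card_of_subtype omList.toFinset (fun n => List.mem_toFinset),
    List.toFinset_card_of_nodup omList_nodup.1, omList_nodup.2.1]

/-- Two commuting maps with few common fixed vectors: every compatible pair is a coboundary. -/
theorem free_pair {u e : G} (hu : u ∈ P.X) (he : e ∈ P.X) (hu2 : u * u = 1) (he2 : e * e = 1)
    (hue : u * e = e * u) (huQ : u ∉ P.F.Q) (heQ : e ∉ P.F.Q) (hueQ : u * e ∉ P.F.Q) {c : U4}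
    (hfix : ∀ α, P.F.phi u α = α → P.F.phi e α = α → α = 0 ∨ α = c)
    {p q : U4} (hp : P.F.phi u p = p) (hq : P.F.phi e q = q)
    (hpq : p + P.F.phi e p = q + P.F.phi u q) :
    ∃ m, m + P.F.phi u m = p ∧ m + P.F.phi e m = q := by
  have hne : ∀ x ∈ P.X, x ∉ P.F.Q → P.cd x ≠ oneC := fun x hx hQ h => hQ (P.mem_Q_of_cd hx h)
  have hsq : ∀ x ∈ P.X, x * x = 1 → mulC (P.cd x) (P.cd x) = oneC := fun x hx h => by
    rw [← P.cd_mul (P.X_D hx) (P.X_D hx), h, P.cd_one]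
  have hne2 : P.cd e ≠ P.cd u := fun h => by
    have := (P.mem_UU.1 (P.mem_UU_of_cd hu he h.symm)).2
    rw [inv_eq_of_mul_eq_one_right hu2] at this
    exact hueQ this
  have hcomm : mulC (P.cd u) (P.cd e) = mulC (P.cd e) (P.cd u) := by
    rw [← P.cd_mul (P.X_D hu) (P.X_D he), hue, P.cd_mul (P.X_D he) (P.X_D hu)]
  have hcount : ((List.range 16).countP fun x =>
      Nat.beq (appC (P.cd u) x) x && Nat.beq (appC (P.cd e) x) x) ≤ 2 := by
    rw [List.countP_eq_length_filter]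
    refine le_trans (List.subperm_of_subset (List.nodup_range.filter _) (l₂ := [0, enc c]) ?_).length_le
      le_rfl
    intro x hx
    simp only [List.mem_filter, List.mem_range, Bool.and_eq_true, nbeq_iff] at hx
    obtain ⟨hlt, h1, h2⟩ := hx
    obtain ⟨α, rfl⟩ := enc_surj x hlt
    rw [P.cd_app] at h1 h2
    rcases hfix α (enc_inj _ _ h1) (enc_inj _ _ h2) with rfl | rfl
    · simp [enc_zero]
    · simp
  have h := List.all_eq_true.mp four_free (P.cd u) (P.cd_mem (P.X_D hu))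
  simp only [Bool.or_eq_true, Bool.not_eq_true', List.all_eq_true, nbeq_iff, ← Bool.not_eq_true,
    List.any_eq_true, Bool.and_eq_true, nble_iff] at h
  have h' := ((((((h.resolve_left (hne u hu huQ)).resolve_left (not_not.mpr (hsq u hu hu2)))
    (P.cd e) (P.cd_mem (P.X_D he))).resolve_left (hne e he heQ)).resolve_left hne2).resolve_left
      (not_not.mpr (hsq e he he2))).resolve_left (not_not.mpr hcomm)
  have h2 := (((h'.resolve_left (not_not.mpr hcount)) (enc p) (List.mem_range.2 (enc_lt p))).resolve_left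
    (not_not.mpr (by rw [P.cd_app, hp]))) (enc q) (List.mem_range.2 (enc_lt q))
  rcases h2 with h2 | h2
  · exact absurd (by rw [P.cd_app, hq]) h2
  rcases h2 with h2 | ⟨x, hx, h3, h4⟩
  · exact absurd (by rw [P.cd_app, P.cd_app, ← enc_add, ← enc_add, hpq]) h2
  obtain ⟨m, rfl⟩ := enc_surj x (List.mem_range.1 hx)
  rw [P.cd_app, ← enc_add] at h3 h4
  exact ⟨m, enc_inj _ _ h3, enc_inj _ _ h4⟩

/-- A complement of `Q` containing a given four group. -/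
theorem exists_compl {u e d : G} (hu : u ∈ P.X) (he : e ∈ P.X) (hd : d ∈ P.X) (hu2 : u * u = 1)
    (he2 : e * e = 1) (hue : u * e = e * u) (huQ : u ∉ P.F.Q) (heQ : e ∉ P.F.Q)
    (hueQ : u * e ∉ P.F.Q) (hdu : d * u * d⁻¹ = e) (hde : d * e * d⁻¹ = u * e) {c : U4}
    (hfix : ∀ α, P.F.phi u α = α → P.F.phi e α = α → α = 0 ∨ α = c)
    (hfc : ∀ s ∈ P.UU, P.F.phi u (P.F.κ s) = P.F.κ s → P.F.phi e (P.F.κ s) = P.F.κ s →
      s * u = u * s ∧ s * e = e * s) :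
    ∃ H : Subgroup G, H ≤ P.X ∧ Nat.card H = 60 ∧ u ∈ H ∧ e ∈ H ∧
      ∀ x ∈ H, x ∈ P.F.Q → x = 1 := by
  classical
  -- the first complement, modulo `z`
  let Z : Subgroup P.X := (Subgroup.zpowers P.F.z).subgroupOf P.X
  have hzc : ∀ x ∈ Subgroup.zpowers P.F.z, ∀ y ∈ P.X, y * x = x * y := by
    intro x hx y hy
    obtain ⟨k, rfl⟩ := Subgroup.mem_zpowers_iff.1 hx
    exact Commute.zpow_right (P.z_comm hy) k
  haveI : Z.Normal := ⟨fun n hn g => by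
    have : (g : G) * n = n * g := hzc _ hn _ g.2
    show ((g * n * g⁻¹ : P.X) : G) ∈ Subgroup.zpowers P.F.z
    push_cast
    rw [this, mul_inv_cancel_right]
    exact hn⟩
  have hzp : ∀ x, x ∈ Subgroup.zpowers P.F.z ↔ ∃ i, x = pw P.F.z i := by
    intro x
    rw [Subgroup.mem_zpowers_iff]
    constructor
    · rintro ⟨k, rfl⟩
      rcases Int.even_or_odd k with ⟨j, rfl⟩ | ⟨j, rfl⟩
      · exact ⟨0, by rw [pw_zero, ← two_mul, zpow_mul, show P.F.z ^ (2 : ℤ) = 1 by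
          rw [show (2 : ℤ) = ((2 : ℕ) : ℤ) from rfl, zpow_natCast, sq, P.F.z_sq], one_zpow]⟩
      · exact ⟨1, by rw [pw_one, zpow_add_one, zpow_mul, show P.F.z ^ (2 : ℤ) = 1 by
          rw [show (2 : ℤ) = ((2 : ℕ) : ℤ) from rfl, zpow_natCast, sq, P.F.z_sq], one_zpow, one_mul]⟩
    · rintro ⟨i, rfl⟩
      rcases z2 i with rfl | rfl
      · exact ⟨0, by simp⟩
      · exact ⟨1, by simp⟩
  have hZU : Subgroup.zpowers P.F.z ≤ P.UU := Subgroup.zpowers_le.2 P.z_mem_UU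
  let q := QuotientGroup.mk' Z
  have hq : ∀ a b : P.X, q a = q b ↔ ∃ i, (b : G) = a * pw P.F.z i := by
    intro a b
    rw [QuotientGroup.mk'_eq_mk']
    constructor
    · rintro ⟨y, hy, rfl⟩
      obtain ⟨i, hi⟩ := (hzp _).1 hy
      exact ⟨i, by rw [← hi]; rfl⟩
    · rintro ⟨i, hi⟩
      refine ⟨a⁻¹ * b, (hzp _).2 ⟨i, ?_⟩, mul_inv_cancel_left _ _⟩
      show ((a⁻¹ * b : P.X) : G) = _
      push_cast
      rw [hi, inv_mul_cancel_left]
  let U' : Subgroup P.X := P.UU.subgroupOf P.X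
  haveI : U'.Normal := ⟨fun n hn g => P.UU_norm g.2 hn⟩
  let K := U'.map q
  haveI : K.Normal := Subgroup.Normal.map inferInstance q (QuotientGroup.mk'_surjective Z)
  have hK : ∀ x ∈ K, ∀ y ∈ K, x * y = y * x := by
    rintro _ ⟨a, ha, rfl⟩ _ ⟨b, hb, rfl⟩
    rw [← map_mul, ← map_mul, hq]
    have haQ : (a : G) ∈ P.F.Q := (P.mem_UU.1 ha).2
    have hbQ : (b : G) ∈ P.F.Q := (P.mem_UU.1 hb).2
    refine ⟨polar ⇑qm (P.F.T.c (b : G)) (P.F.T.c (a : G)), ?_⟩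
    have h := P.F.T.comm_Q hbQ haQ
    rw [commutatorElement_def] at h
    show (b : G) * a = a * b * pw P.F.T.z _
    rw [pw_comm ((a : G) * b) (P.F.T.Qz (mul_mem haQ hbQ)), ← h]
    group
  choose s hsU hsκ using P.UU_surj
  have hcardK : Nat.card K = 16 := by
    let f : U4 → K := fun α => ⟨q ⟨s α, P.UU_X (hsU α)⟩, ⟨_, hsU α, rfl⟩⟩
    have hf : Function.Bijective f := by
      constructor
      · intro α β h
        obtain ⟨i, hi⟩ := (hq _ _).1 (congrArg Subtype.val h)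
        rw [← hsκ α, ← hsκ β]
        show _ = P.F.κ (s β)
        rw [show s β = s α * pw P.F.z i from hi, P.κ_zpw i _ (P.mem_UU.1 (hsU α)).2]
      · rintro ⟨_, a, ha, rfl⟩
        refine ⟨P.F.κ (a : G), Subtype.ext ((hq _ _).2 ?_)⟩
        exact P.eq_of_κ (hsU _) ha (hsκ _)
    rw [← Nat.card_congr (Equiv.ofBijective f hf), Nat.card_eq_fintype_card]
    rfl
  let E := fourSub u e hu2 he2 hue
  have hEX : E ≤ P.X := by
    rintro _ ⟨i, j, rfl⟩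
    exact mul_mem (pw_mem hu i) (pw_mem he j)
  have hEQ : ∀ x ∈ E, x ∈ P.F.Q → x = 1 := by
    rintro _ ⟨i, j, rfl⟩ h
    rcases z2 i with rfl | rfl <;> rcases z2 j with rfl | rfl <;>
      simp only [pw_zero, pw_one, one_mul, mul_one] at h ⊢
    · exact absurd h heQ
    · exact absurd h huQ
    · exact absurd h hueQ
  have hcardE : Nat.card E = 4 := by
    let f : ZMod 2 × ZMod 2 → E := fun p => ⟨pw u p.1 * pw e p.2, p.1, p.2, rfl⟩
    have hf : Function.Bijective f := by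
      refine ⟨?_, fun ⟨x, i, j, h⟩ => ⟨(i, j), Subtype.ext h.symm⟩⟩
      rintro ⟨i, j⟩ ⟨k, l⟩ h
      have h' : pw u i * pw e j = pw u k * pw e l := congrArg Subtype.val h
      have key : pw u (i + k) * pw e (j + l) = 1 := by
        rw [pw_add hu2, pw_add he2]
        calc pw u i * pw u k * (pw e j * pw e l) = pw u i * (pw u k * pw e j) * pw e l := by group
          _ = pw u i * (pw e j * pw u k) * pw e l := by
            rcases z2 j with rfl | rfl <;> rcases z2 k with rfl | rfl <;> simp [hue]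
          _ = (pw u k * pw e l) * pw u k * pw e l := by rw [← h']; group
          _ = 1 := by
            rcases z2 k with rfl | rfl <;> rcases z2 l with rfl | rfl <;>
              simp only [pw_zero, pw_one, one_mul, mul_one, hu2, he2]
            rw [mul_assoc u e u, ← hue, ← mul_assoc, hu2, one_mul, he2]
      rcases z2 (i + k) with h1 | h1 <;> rcases z2 (j + l) with h2 | h2 <;>
        rw [h1, h2] at key <;> simp only [pw_zero, pw_one, one_mul, mul_one] at key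
      · exact Prod.ext (add_eq_zero_z2 h1) (add_eq_zero_z2 h2)
      · exact absurd (key ▸ one_mem _) heQ
      · exact absurd (key ▸ one_mem _) huQ
      · exact absurd (key ▸ one_mem _) hueQ
    rw [← Nat.card_congr (Equiv.ofBijective f hf), Nat.card_prod, Nat.card_zmod]
  let A' := (E.subgroupOf P.X).map q
  have hA'K : ∀ x ∈ A', x ∈ K → x = 1 := by
    rintro _ ⟨a, ha, rfl⟩ ⟨b, hb, hab⟩
    obtain ⟨i, hi⟩ := (hq _ _).1 hab
    have h1 : (a : G) = 1 := hEQ _ ha (by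
      rw [hi]; exact mul_mem (P.mem_UU.1 hb).2 (pw_mem P.F.T.data.z_mem i))
    rw [show a = 1 from Subtype.ext h1, map_one]
  have hcardA : Nat.card A' = 4 := by
    let f : E → A' := fun x => ⟨q ⟨x.1, hEX x.2⟩, ⟨_, x.2, rfl⟩⟩
    have hf : Function.Bijective f := by
      refine ⟨?_, ?_⟩
      · intro x y h
        obtain ⟨i, hi⟩ := (hq _ _).1 (congrArg Subtype.val h)
        have h1 := hEQ _ (mul_mem (inv_mem x.2) y.2) (by
          rw [show (y : G) = x.1 * pw P.F.z i from hi, inv_mul_cancel_left]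
          exact pw_mem P.F.T.data.z_mem i)
        exact Subtype.ext (inv_mul_eq_one.1 h1)
      · rintro ⟨_, a, ha, rfl⟩
        exact ⟨⟨a.1, ha⟩, rfl⟩
    rw [← Nat.card_congr (Equiv.ofBijective f hf), hcardE]
  have hcardZ : Nat.card Z = 2 := by
    rw [Nat.card_congr (Subgroup.subgroupOfEquivOfLe (hZU.trans fun x hx => P.UU_X hx)).toEquiv,
      Nat.card_zpowers]
    exact orderOf_eq_prime (by rw [sq]; exact P.F.z_sq) P.F.z_ne
  have hcardM : Nat.card (P.X ⧸ Z) = 960 := by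
    have h := Subgroup.card_eq_card_quotient_mul_card_subgroup Z
    rw [P.card_X, hcardZ] at h
    omega
  obtain ⟨H0, hH0⟩ := split_fifteen K A' hK hA'K (by rw [hcardM, hcardK, hcardA])
    (by rw [hcardK]; decide)
  let T0 : Subgroup G := (H0.comap q).map P.X.subtype
  have hT0X : T0 ≤ P.X := by rintro _ ⟨x, -, rfl⟩; exact x.2
  have hT0z : P.F.z ∈ T0 := by
    refine ⟨⟨P.F.z, P.z_mem_X⟩, ?_, rfl⟩
    show q ⟨P.F.z, P.z_mem_X⟩ ∈ H0
    rw [show q ⟨P.F.z, P.z_mem_X⟩ = 1 from (QuotientGroup.eq_one_iff _).2 (Subgroup.mem_zpowers P.F.z)]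
    exact one_mem _
  have hT0Q : ∀ x ∈ T0, x ∈ P.F.Q → ∃ i, x = pw P.F.z i := by
    rintro _ ⟨a, ha, rfl⟩ haQ
    have haK : q a ∈ K := ⟨a, P.mem_UU.2 ⟨a.2, haQ⟩, rfl⟩
    have h1 : q a = 1 := Subgroup.disjoint_def.1 hH0.disjoint haK ha
    exact (hzp _).1 ((QuotientGroup.eq_one_iff a).1 h1)
  have hT0on : ∀ n ∈ omList, ∃ x ∈ T0, P.cd x = n := by
    intro n hn
    obtain ⟨r, hr, rfl⟩ := P.om_X hn
    obtain ⟨⟨k, h⟩, hkh⟩ := hH0.2 (q ⟨r, hr⟩)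
    obtain ⟨k', hk', hkk⟩ := k.2
    have hmem : q (k'⁻¹ * ⟨r, hr⟩) ∈ H0 := by
      rw [map_mul, map_inv, hkk, ← hkh]
      simp
    refine ⟨(k' : G)⁻¹ * r, ⟨k'⁻¹ * ⟨r, hr⟩, hmem, rfl⟩, P.cd_UU_mul hr (inv_mem hk')⟩
  -- move it onto `u` and `e`
  obtain ⟨u', hu'T, hu'c⟩ := hT0on _ (P.cd_mem (P.X_D hu))
  obtain ⟨e', he'T, he'c⟩ := hT0on _ (P.cd_mem (P.X_D he))
  have lift : ∀ x y : G, x ∈ P.X → y ∈ T0 → P.cd y = P.cd x → x⁻¹ * y ∈ P.UU :=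
    fun x y hx hy h => P.mem_UU_of_cd hx (hT0X hy) h.symm
  have hs1 := lift u u' hu hu'T hu'c
  have ht1 := lift e e' he he'T he'c
  set s1 := u⁻¹ * u' with hs1d
  set t1 := e⁻¹ * e' with ht1d
  have hu'e : u' = u * s1 := by rw [hs1d]; group
  have he'e : e' = e * t1 := by rw [ht1d]; group
  have hκT : ∀ x, x ∈ T0 → x ∈ P.UU → P.F.κ x = 0 := fun x hx hx' => by
    obtain ⟨i, rfl⟩ := hT0Q x hx (P.mem_UU.1 hx').2
    exact P.κ_z i
  have hinv : ∀ {x s : G}, x ∈ P.X → s ∈ P.UU → x * x = 1 → x * s ∈ T0 →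
      P.F.phi x (P.F.κ s) = P.F.κ s := by
    intro x s hx hs hx2 hxs
    have e1 : x * s * (x * s) = x * s * x⁻¹ * s := by
      rw [inv_eq_of_mul_eq_one_right hx2]; group
    have hmem : x * s * x⁻¹ * s ∈ P.UU := mul_mem (P.UU_norm hx hs) hs
    have h0 := hκT _ (e1 ▸ mul_mem hxs hxs) hmem
    rw [P.F.κ_mul (P.mem_UU.1 (P.UU_norm hx hs)).2 (P.mem_UU.1 hs).2, P.κ_conj hx hs] at h0
    exact add_eq_zero_iff_eq_neg.1 h0 |>.trans (ZModModule.neg_eq_self _)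
  have hp := hinv hu hs1 hu2 (hu'e ▸ hu'T)
  have hq1 := hinv he ht1 he2 (he'e ▸ he'T)
  have hpq : P.F.κ s1 + P.F.phi e (P.F.κ s1) = P.F.κ t1 + P.F.phi u (P.F.κ t1) := by
    have hw : e⁻¹ * s1 * e ∈ P.UU ∧ P.F.κ (e⁻¹ * s1 * e) = P.F.phi e (P.F.κ s1) := by
      have h1 := P.UU_norm he hs1
      have h2 := P.κ_conj he hs1
      rw [inv_eq_of_mul_eq_one_right he2] at h1 h2 ⊢
      exact ⟨h1, h2⟩
    have hw' : u⁻¹ * t1 * u ∈ P.UU ∧ P.F.κ (u⁻¹ * t1 * u) = P.F.phi u (P.F.κ t1) := by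
      have h1 := P.UU_norm hu ht1
      have h2 := P.κ_conj hu ht1
      rw [inv_eq_of_mul_eq_one_right hu2] at h1 h2 ⊢
      exact ⟨h1, h2⟩
    set a := e⁻¹ * s1 * e * t1 with had
    set b := u⁻¹ * t1 * u * s1 with hbd
    have ha : a ∈ P.UU := mul_mem hw.1 ht1
    have hb : b ∈ P.UU := mul_mem hw'.1 hs1
    have e1 : a⁻¹ * b = (u' * e')⁻¹ * (e' * u') := by
      have ea : u' * e' = (u * e) * a := by rw [had, hu'e, he'e]; group
      have eb : e' * u' = (u * e) * b := by rw [hue, hbd, hu'e, he'e]; group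
      rw [ea, eb]; group
    have h0 := hκT _ (e1 ▸ mul_mem (inv_mem (mul_mem hu'T he'T)) (mul_mem he'T hu'T))
      (mul_mem (inv_mem ha) hb)
    rw [P.F.κ_mul (inv_mem (P.mem_UU.1 ha).2) (P.mem_UU.1 hb).2, P.F.κ_inv (P.mem_UU.1 ha).2,
      had, hbd, P.F.κ_mul (P.mem_UU.1 hw.1).2 (P.mem_UU.1 ht1).2,
      P.F.κ_mul (P.mem_UU.1 hw'.1).2 (P.mem_UU.1 hs1).2, hw.2, hw'.2] at h0
    calc P.F.κ s1 + P.F.phi e (P.F.κ s1)
        = P.F.κ s1 + P.F.phi e (P.F.κ s1) + (P.F.phi e (P.F.κ s1) + P.F.κ t1 +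
          (P.F.phi u (P.F.κ t1) + P.F.κ s1)) := by rw [h0, add_zero]
      _ = (P.F.κ s1 + P.F.κ s1) + (P.F.phi e (P.F.κ s1) + P.F.phi e (P.F.κ s1)) +
          (P.F.κ t1 + P.F.phi u (P.F.κ t1)) := by abel
      _ = _ := by simp [ZModModule.add_self]
  obtain ⟨m, hm1, hm2⟩ := P.free_pair hu he hu2 he2 hue huQ heQ hueQ hfix hp hq1 hpq
  obtain ⟨sm, hsm, rfl⟩ := P.UU_surj m
  let T : Subgroup G := T0.comap (MulAut.conj sm).toMonoidHom
  have hTm : ∀ x, x ∈ T ↔ sm * x * sm⁻¹ ∈ T0 := fun x => Iff.rfl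
  have hTX : T ≤ P.X := fun x hx => by
    have h := mul_mem (mul_mem (inv_mem (P.UU_X hsm)) (hT0X ((hTm x).1 hx))) (P.UU_X hsm)
    simpa [mul_assoc] using h
  have hTz : P.F.z ∈ T := by
    rw [hTm, P.z_comm (P.UU_X hsm), mul_inv_cancel_right]; exact hT0z
  have hTQ : ∀ x ∈ T, x ∈ P.F.Q → ∃ i, x = pw P.F.z i := by
    intro x hx hxQ
    obtain ⟨i, hi⟩ := hT0Q _ ((hTm x).1 hx) (P.X_norm_Q (P.UU_X hsm) hxQ)
    exact ⟨i, mul_left_cancel (mul_right_cancel (hi.trans (by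
      rw [pw_comm _ (P.z_comm (P.UU_X hsm)) i, mul_inv_cancel_right])))⟩
  have hTon : ∀ n ∈ omList, ∃ x ∈ T, P.cd x = n := by
    intro n hn
    obtain ⟨x, hx, rfl⟩ := hT0on n hn
    refine ⟨sm⁻¹ * x * sm, (hTm _).2 (by simpa [mul_assoc] using hx), ?_⟩
    rw [P.cd_mul_UU (mul_mem (inv_mem (P.UU_X hsm)) (hT0X hx)) hsm,
      P.cd_UU_mul (hT0X hx) (inv_mem hsm)]
  have hinT : ∀ {x x' s : G}, x ∈ P.X → s ∈ P.UU → x * x = 1 → x' ∈ T0 → x' = x * s →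
      P.F.κ sm + P.F.phi x (P.F.κ sm) = P.F.κ s → x ∈ T := by
    intro x x' s hx hs hx2 hx' he' hκ
    have hw : x⁻¹ * (sm * x * sm⁻¹) ∈ P.UU := by
      have h := mul_mem (P.UU_norm hx hsm) (inv_mem hsm)
      rw [inv_eq_of_mul_eq_one_right hx2] at h ⊢
      simpa [mul_assoc] using h
    have hwκ : P.F.κ (x⁻¹ * (sm * x * sm⁻¹)) = P.F.κ s := by
      have e1 : x⁻¹ * (sm * x * sm⁻¹) = x * sm * x⁻¹ * sm⁻¹ := by
        rw [inv_eq_of_mul_eq_one_right hx2]; group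
      rw [e1, P.F.κ_mul (P.mem_UU.1 (P.UU_norm hx hsm)).2 (inv_mem (P.mem_UU.1 hsm).2),
        P.F.κ_inv (P.mem_UU.1 hsm).2, P.κ_conj hx hsm, add_comm, hκ]
    obtain ⟨i, hi⟩ := P.eq_of_κ hs hw hwκ.symm
    rw [inv_mul_eq_iff_eq_mul, ← mul_assoc, ← he'] at hi
    rw [hTm, hi]
    exact mul_mem hx' (pw_mem hT0z i)
  have huT := hinT hu hs1 hu2 hu'T hu'e hm1
  have heT := hinT he ht1 he2 he'T he'e hm2
  -- an element of `T` inducing `d`
  obtain ⟨t, htT, htc⟩ := hTon _ (P.cd_mem (P.X_D hd))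
  have hσ : t⁻¹ * d ∈ P.UU := P.mem_UU_of_cd (hTX htT) hd htc
  set σ := t⁻¹ * d with hσd
  have hfixσ : ∀ {x y : G}, x ∈ T → y ∈ T → x * x = 1 → d * x * d⁻¹ = y →
      P.F.phi x (P.F.κ σ) = P.F.κ σ := by
    intro x y hx hy hx2 hxy
    have e1 : x⁻¹ * (t⁻¹ * y * t) = x * σ * x⁻¹ * σ⁻¹ := by
      rw [← hxy, hσd, inv_eq_of_mul_eq_one_right hx2]; group
    have hmem : x * σ * x⁻¹ * σ⁻¹ ∈ P.UU := mul_mem (P.UU_norm (hTX hx) hσ) (inv_mem hσ)
    obtain ⟨i, hi⟩ := hTQ _ (e1 ▸ mul_mem (inv_mem hx) (mul_mem (mul_mem (inv_mem htT) hy) htT))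
      (P.mem_UU.1 hmem).2
    have h := congrArg P.F.κ hi
    rw [P.F.κ_mul (P.mem_UU.1 (P.UU_norm (hTX hx) hσ)).2 (inv_mem (P.mem_UU.1 hσ).2),
      P.F.κ_inv (P.mem_UU.1 hσ).2, P.κ_conj (hTX hx) hσ, P.κ_z] at h
    exact add_eq_zero_iff_eq_neg.1 h |>.trans (ZModModule.neg_eq_self _)
  obtain ⟨hσu, hσe⟩ := hfc σ hσ (hfixσ huT heT hu2 hdu) (hfixσ heT (mul_mem huT heT) he2 hde)
  have htu : t * u * t⁻¹ = e := by
    calc t * u * t⁻¹ = d * (σ⁻¹ * (u * σ)) * d⁻¹ := by rw [hσd]; group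
      _ = e := by rw [← hσu, inv_mul_cancel_left, hdu]
  have hte : t * e * t⁻¹ = u * e := by
    calc t * e * t⁻¹ = d * (σ⁻¹ * (e * σ)) * d⁻¹ := by rw [hσd]; group
      _ = u * e := by rw [← hσe, inv_mul_cancel_left, hde]
  -- the complement of `z` in `T`
  let Zt : Subgroup T := (Subgroup.zpowers P.F.z).subgroupOf T
  haveI : Zt.Normal := ⟨fun n hn g => by
    have : (g : G) * n = n * g := hzc _ hn _ (hTX g.2)
    show ((g * n * g⁻¹ : T) : G) ∈ Subgroup.zpowers P.F.z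
    push_cast
    rw [this, mul_inv_cancel_right]
    exact hn⟩
  have hET : E ≤ T := by
    rintro _ ⟨i, j, rfl⟩
    exact mul_mem (pw_mem huT i) (pw_mem heT j)
  have hcardT := P.card_cover T hTX hTz hTQ hTon
  have hZtc : Nat.card Zt = 2 := by
    rw [Nat.card_congr (Subgroup.subgroupOfEquivOfLe (Subgroup.zpowers_le.2 hTz)).toEquiv,
      Nat.card_zpowers]
    exact orderOf_eq_prime (by rw [sq]; exact P.F.z_sq) P.F.z_ne
  have hEtc : Nat.card (E.subgroupOf T) = 4 := by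
    rw [Nat.card_congr (Subgroup.subgroupOfEquivOfLe hET).toEquiv, hcardE]
  obtain ⟨H1, hH1⟩ := split_fifteen Zt (E.subgroupOf T)
    (fun x hx y hy => Subtype.ext (hzc _ hy _ (hTX x.2)))
    (fun x hx hx' => Subtype.ext (hEQ _ hx (P.mem_UU.1 (hZU hx')).2))
    (by rw [hcardT, hZtc, hEtc]) (by rw [hZtc]; decide)
  have hH1c : Nat.card H1 = 60 := by
    have h := hH1.card_mul
    rw [hZtc, hcardT] at h
    omega
  let H : Subgroup G := H1.map T.subtype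
  have hHm : ∀ x (hx : x ∈ T), x ∈ H ↔ (⟨x, hx⟩ : T) ∈ H1 := by
    intro x hx
    constructor
    · rintro ⟨a, ha, rfl⟩; exact ha
    · exact fun h => ⟨⟨x, hx⟩, h, rfl⟩
  have hHT : H ≤ T := by rintro _ ⟨a, -, rfl⟩; exact a.2
  have hHQ : ∀ x ∈ H, x ∈ P.F.Q → x = 1 := by
    intro x hx hxQ
    obtain ⟨i, hi⟩ := hTQ x (hHT hx) hxQ
    have hxZ : (⟨x, hHT hx⟩ : T) ∈ Zt := (hzp x).2 ⟨i, hi⟩
    exact congrArg Subtype.val (Subgroup.disjoint_def.1 hH1.disjoint hxZ ((hHm x _).1 hx))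
  have hor : ∀ x ∈ T, x ∈ H ∨ P.F.z * x ∈ H := by
    intro x hx
    obtain ⟨⟨k, h⟩, hkh⟩ := hH1.2 ⟨x, hx⟩
    obtain ⟨i, hi⟩ := (hzp _).1 k.2
    have hval : x = pw P.F.z i * (h : T).1 := by rw [← hi]; exact (congrArg Subtype.val hkh).symm
    rcases z2 i with rfl | rfl
    · left; rw [hval, pw_zero, one_mul]; exact ⟨_, h.2, rfl⟩
    · right
      rw [hval, pw_one, ← mul_assoc, P.F.z_sq, one_mul]; exact ⟨_, h.2, rfl⟩
  have hzH : P.F.z ∉ H := fun h => P.F.z_ne (hHQ _ h P.F.T.data.z_mem)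
  have hnorm : ∀ x ∈ H, t * x * t⁻¹ ∈ H := by
    intro x hx
    rcases hor t htT with h | h
    · exact mul_mem (mul_mem h hx) (inv_mem h)
    · have e1 : t * x * t⁻¹ = P.F.z * t * x * (P.F.z * t)⁻¹ := by
        rw [mul_inv_rev, inv_eq_of_mul_eq_one_right P.F.z_sq]
        calc t * x * t⁻¹ = (t * x * t⁻¹) * (P.F.z * P.F.z) := by rw [P.F.z_sq, mul_one]
          _ = P.F.z * (t * x * t⁻¹) * P.F.z := by
            rw [← mul_assoc, P.z_comm (mul_mem (mul_mem (hTX htT) (hTX (hHT hx))) (inv_mem (hTX htT)))]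
          _ = _ := by group
      rw [e1]
      exact mul_mem (mul_mem h hx) (inv_mem h)
  have huH : u ∈ H := by
    rcases hor u huT with h | h
    · exact h
    have h1 := hnorm _ h
    have h2 := hnorm _ h1
    have c : ∀ y ∈ T, t * (P.F.z * y) * t⁻¹ = P.F.z * (t * y * t⁻¹) := fun y _ => by
      rw [← mul_assoc t, P.z_comm (hTX htT)]; group
    rw [c u huT, htu] at h1
    rw [c u huT, htu, c e heT, hte] at h2
    exfalso
    refine hzH ?_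
    have h3 := mul_mem (inv_mem (mul_mem h h1)) h2
    have e2 : P.F.z * u * (P.F.z * e) = u * e := by
      rw [← P.z_comm hu, mul_assoc, ← mul_assoc P.F.z, P.F.z_sq, one_mul]
    rw [e2, ← P.z_comm (mul_mem hu he), inv_mul_cancel_left] at h3
    exact h3
  refine ⟨H, hHT.trans hTX, ?_, huH, ?_, hHQ⟩
  · rw [Subgroup.card_map_of_injective T.subtype_injective, hH1c]
  · rw [← htu]; exact hnorm u huH

end Pr

open Fr (K1 K2)

theorem base_facts : qU (0 : U4) = 0 ∧ bU E0 0 = 0 ∧ bU F0 0 = 0 ∧ E0 ≠ 0 ∧ F0 ≠ 0 ∧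
    SuzType.Ker E0 0 ∧ SuzType.Ker F0 0 ∧ K1 F0 0 E0 0 = 1 ∧ K2 F0 0 E0 0 = 0 := by decide +kernel

theorem kill_kappa : ∀ κ : U4, bU κ A0 = 0 → bU κ W0 = 0 → bU κ E0 = 0 → bU κ F0 = 0 → κ = 0 := by
  decide +kernel

/-- Two noncommuting involutions of `Q` centralised by `u` and `e1`, and a rotation. -/
structure Base (W : Fu G) [Finite G] where
  P : Pr G
  P' : Pr G
  hz : P.F.z = W.F.z
  hQ : P.F.Q = W.F.Q
  hz' : P'.F.z = W.F.z
  hQ' : P'.F.Q = W.F.Q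
  hv' : P'.F.v = P.g
  hg' : P'.g = P.F.v
  a : U4
  b : U4
  hab : (a = E0 ∧ b = F0) ∨ (a = F0 ∧ b = E0)
  hf : W.F.Is P.F.v a 0
  hg : W.F.Is P.g b 0
  d : G
  hd : d ∈ P.X
  hdu : d * W.u * d⁻¹ = W.e1
  hde : d * W.e1 * d⁻¹ = W.u * W.e1

variable [Finite G]

theorem exists_base (W : Fu G) : Nonempty (Base W) := by
  obtain ⟨q0, qE, qF, eE, eF, -, -, k1, k2⟩ := base_facts
  obtain ⟨f, hfA, hfκ⟩ := W.F.κ_surj E0
  obtain ⟨g, hgA, hgκ⟩ := W.F.κ_surj F0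
  have hf : W.F.Is f E0 0 := hfκ ▸ W.F.Is_A hfA
  have hg : W.F.Is g F0 0 := hgκ ▸ W.F.Is_A hgA
  have hfQ := (mem_A.mp hfA).1
  have hgQ := (mem_A.mp hgA).1
  have sq0 : ∀ {x : G} {α : U4}, W.F.Is x α 0 → qU α = 0 → bU α 0 = 0 → x * x = 1 := by
    intro x α hx h1 h2
    rw [Fr.Is.sq W.F hx, h1, h2, q0, add_zero, W.F.pz_zero]
  have hf2 := sq0 hf qU_E0 qE
  have hg2 := sq0 hg qU_F0 qF
  have ne0 : ∀ {x : G} {α : U4}, W.F.Is x α 0 → α ≠ 0 → x ≠ 1 ∧ x ≠ W.F.z := by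
    intro x α hx hα
    refine ⟨fun e => hα (Fr.Is.unique W.F hx (e ▸ W.F.Is_one)).1, fun e => hα ?_⟩
    exact (Fr.Is.unique W.F hx (by rw [e, ← W.F.pz_z]; exact W.F.Is_pz 1 0)).1
  obtain ⟨F1, z1, Q1, v1⟩ := exists_reframe W.F hfQ hf2 (ne0 hf eE).1 (ne0 hf eE).2
  obtain ⟨F2, z2', Q2, v2⟩ := exists_reframe W.F hgQ hg2 (ne0 hg eF).1 (ne0 hg eF).2
  have hgf : g * f * g⁻¹ * f⁻¹ = W.F.z := by
    have h := Fr.Is.comm W.F hg hf
    rw [k1, k2, W.F.pz_z] at h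
    rw [h, mul_assoc (f * g), ← (Commute.inv_left (W.F.T.Qz hgQ)).eq,
      ← mul_assoc, mul_inv_cancel_right, mul_assoc, ← (Commute.inv_left (W.F.T.Qz hfQ)).eq, mul_inv_cancel_left]
  have hfg : f * g * f⁻¹ * g⁻¹ = W.F.z := by
    have e : f * g * f⁻¹ * g⁻¹ = (g * f * g⁻¹ * f⁻¹)⁻¹ := by group
    rw [e, hgf, inv_eq_of_mul_eq_one_right W.F.z_sq]
  have hc : ∀ (F : Fr G) (x y : G), F.z = W.F.z → F.v = y → x ∈ F.Q →
      x * y * x⁻¹ * y⁻¹ = W.F.z → cp (F.T.c x) = 1 := by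
    intro F x y hz hv hx h
    have h' := F.comm_v hx
    rw [commutatorElement_def, hv, h, hz] at h'
    exact pw_inj W.F.z_ne (h'.symm.trans (pw_one _).symm)
  let P : Pr G := ⟨F1, g, Q1.symm ▸ hgQ, hg2, hc F1 g f z1 v1 (Q1.symm ▸ hgQ) hgf⟩
  let P' : Pr G := ⟨F2, f, Q2.symm ▸ hfQ, hf2, hc F2 f g z2' v2 (Q2.symm ▸ hfQ) hfg⟩
  obtain ⟨d, hd, hdu, hde, -, hE, hF⟩ := W.exists_rot
  have hfix : ∀ {x : G} {α : U4}, W.F.Is x α 0 → W.F.phi d α = α →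
      d * d * (d * d) * x = x * (d * d * (d * d)) := by
    intro x α hx hα
    have h := Fr.Is.conj W.F hd hx
    rw [hα, W.F.phi_zero] at h
    obtain ⟨i, j, hij⟩ := Fr.Is.eq_mul_pz W.F hx h
    have h2 : d * d * x * (d * d)⁻¹ = x := by
      calc d * d * x * (d * d)⁻¹ = d * (d * x * d⁻¹) * d⁻¹ := by group
        _ = d * (x * W.F.pz i j) * d⁻¹ := by rw [hij]
        _ = d * x * d⁻¹ * (d * W.F.pz i j * d⁻¹) := by group
        _ = x := by rw [W.F.pz_comm hd, mul_inv_cancel_right, hij, mul_assoc, W.F.pz_sq, mul_one]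
    have h3 := mul_inv_eq_iff_eq_mul.1 h2
    exact (Commute.mul_left (h3 : Commute (d * d) x) h3).eq
  have hdd : d * d * d * W.u * (d * d * d)⁻¹ = W.u ∧ d * d * d * W.e1 * (d * d * d)⁻¹ = W.e1 := by
    have hE2 : W.e1 * W.e1 = 1 := by
      have h := Fr.Is.sq W.F W.e1_Is
      obtain ⟨a1, a2⟩ := etp_sq W0 (A0 + W0) etp_rot.1
      rwa [a1, a2, W.F.pz_zero] at h
    have hc : W.u * W.e1 = W.e1 * W.u :=
      W.Et_comm W.u_mem_Et (W.Et_le (W.E_le W.e1_mem))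
    have h3 : d * (W.u * W.e1) * d⁻¹ = W.u := by
      calc d * (W.u * W.e1) * d⁻¹ = (d * W.u * d⁻¹) * (d * W.e1 * d⁻¹) := by group
        _ = W.u := by rw [hdu, hde, hc, ← mul_assoc, hE2, one_mul]
    constructor
    · calc d * d * d * W.u * (d * d * d)⁻¹ = d * (d * (d * W.u * d⁻¹) * d⁻¹) * d⁻¹ := by group
        _ = W.u := by rw [hdu, hde, h3]
    · calc d * d * d * W.e1 * (d * d * d)⁻¹ = d * (d * (d * W.e1 * d⁻¹) * d⁻¹) * d⁻¹ := by group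
        _ = W.e1 := by rw [hde, h3, hdu]
  refine ⟨⟨P, P', z1, Q1, z2', Q2, v2, v1.symm, E0, F0, Or.inl ⟨rfl, rfl⟩, ?_, hg, d * d * (d * d), ?_, ?_, ?_⟩⟩
  · show W.F.Is F1.v E0 0
    rw [v1]; exact hf
  · refine P.mem_X.2 ⟨F1.mem_D.2 ⟨?_, ?_⟩, hfix hg hF⟩
    · rw [z1]; exact (W.F.mem_D.1 (mul_mem (mul_mem hd hd) (mul_mem hd hd))).1
    · rw [v1]; exact hfix hf hE
  · calc d * d * (d * d) * W.u * (d * d * (d * d))⁻¹
        = d * (d * d * d * W.u * (d * d * d)⁻¹) * d⁻¹ := by group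
      _ = W.e1 := by rw [hdd.1, hdu]
  · calc d * d * (d * d) * W.e1 * (d * d * (d * d))⁻¹
        = d * (d * d * d * W.e1 * (d * d * d)⁻¹) * d⁻¹ := by group
      _ = W.u * W.e1 := by rw [hdd.2, hde]

namespace Base

variable {W : Fu G} (B : Base W)

theorem mem_X_iff {x : G} : x ∈ B.P.X ↔
    x * W.F.z = W.F.z * x ∧ x * B.P.F.v = B.P.F.v * x ∧ x * B.P.g = B.P.g * x := by
  rw [B.P.mem_X, B.P.F.mem_D, B.hz, and_assoc]

theorem mem_X'_iff {x : G} : x ∈ B.P'.X ↔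
    x * W.F.z = W.F.z * x ∧ x * B.P.F.v = B.P.F.v * x ∧ x * B.P.g = B.P.g * x := by
  rw [B.P'.mem_X, B.P'.F.mem_D, B.hz', B.hv', B.hg', and_assoc, and_comm (a := x * B.P.g = B.P.g * x)]

theorem X_eq : B.P'.X = B.P.X := Subgroup.ext fun x => by rw [B.mem_X'_iff, B.mem_X_iff]

/-- Exchanging `f` and `g`. -/
def symm : Base W where
  P := B.P'
  P' := B.P
  hz := B.hz'
  hQ := B.hQ'
  hz' := B.hz
  hQ' := B.hQ
  hv' := B.hg'.symm
  hg' := B.hv'.symm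
  a := B.b
  b := B.a
  hab := B.hab.elim (fun h => Or.inr ⟨h.2, h.1⟩) (fun h => Or.inl ⟨h.2, h.1⟩)
  hf := B.hv'.symm ▸ B.hg
  hg := B.hg'.symm ▸ B.hf
  d := B.d
  hd := B.X_eq.symm ▸ B.hd
  hdu := B.hdu
  hde := B.hde

theorem f_S0 : B.P.F.v ∈ W.S0 := W.mem_S0_iff.2 ⟨_, _, by
  rcases B.hab with ⟨h, -⟩ | ⟨h, -⟩ <;> rw [h]
  exacts [base_facts.2.2.2.2.2.1, base_facts.2.2.2.2.2.2.1], B.hf⟩
theorem g_S0 : B.P.g ∈ W.S0 := W.mem_S0_iff.2 ⟨_, _, by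
  rcases B.hab with ⟨-, h⟩ | ⟨-, h⟩ <;> rw [h]
  exacts [base_facts.2.2.2.2.2.2.1, base_facts.2.2.2.2.2.1], B.hg⟩

theorem u_comm_f : W.u * B.P.F.v = B.P.F.v * W.u := ((W.mem_S0.1 B.f_S0).1).symm
theorem u_comm_g : W.u * B.P.g = B.P.g * W.u := ((W.mem_S0.1 B.g_S0).1).symm

theorem u_X : W.u ∈ B.P.X := B.mem_X_iff.2 ⟨W.uz, B.u_comm_f, B.u_comm_g⟩

theorem e_X : W.e1 ∈ B.P.X :=
  B.mem_X_iff.2 ⟨(W.F.mem_D.1 (W.mem_S0.1 (W.Et_le (W.E_le W.e1_mem))).2).1,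
    W.Et_comm (W.E_le W.e1_mem) B.f_S0, W.Et_comm (W.E_le W.e1_mem) B.g_S0⟩

theorem v_X : W.F.v ∈ B.P.X :=
  B.mem_X_iff.2 ⟨W.F.zv.symm, ((W.F.mem_D.1 (W.mem_S0.1 B.f_S0).2).2).symm,
    ((W.F.mem_D.1 (W.mem_S0.1 B.g_S0).2).2).symm⟩

theorem v_UU : W.F.v ∈ B.P.UU := B.P.mem_UU.2 ⟨B.v_X, B.hQ.symm ▸ W.F.hv⟩

theorem notQ {x : G} {α β : U4} (hx : W.F.Is x α β) (h : EtP α β) (h0 : ¬ (α = 0 ∧ β = 0)) :
    x ∉ B.P.F.Q := by
  rw [B.hQ]
  rcases etp_std α β h with h' | ⟨h1, h2, h3⟩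
  · exact absurd h' h0
  intro hQ
  refine Fr.Is.not_conj W.F hx h1 h2 h3 (W.F.isConj_of_mem_Q hQ ?_ ?_)
  · obtain ⟨e1, e2⟩ := etp_sq α β h
    rw [Fr.Is.sq W.F hx, e1, e2, W.F.pz_zero]
  · intro e
    exact h0 (Fr.Is.unique W.F hx (e ▸ W.F.Is_one))

theorem u_notQ : W.u ∉ B.P.F.Q := B.notQ W.hu etp_rot.2.2 (by decide)
theorem e_notQ : W.e1 ∉ B.P.F.Q := B.notQ W.e1_Is etp_rot.1 (by decide)

theorem ue_Is : W.F.Is (W.u * W.e1) (A0 + W0) A0 := by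
  have h := Fr.Is.mul W.F W.hu W.e1_Is
  have e : W0 + (A0 + W0) = A0 := by rw [add_left_comm, ZModModule.add_self, add_zero]
  rwa [e] at h

theorem ue_notQ : W.u * W.e1 ∉ B.P.F.Q := B.notQ ue_Is etp_rot.2.1 (by decide)

theorem e_sq : W.e1 * W.e1 = 1 := by
  obtain ⟨a1, a2⟩ := etp_sq W0 (A0 + W0) etp_rot.1
  rw [Fr.Is.sq W.F W.e1_Is, a1, a2, W.F.pz_zero]

theorem ue_comm : W.u * W.e1 = W.e1 * W.u := W.Et_comm W.u_mem_Et (W.Et_le (W.E_le W.e1_mem))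

/-- The common fixed points on `U` of `u` and `e1` come from `⟨z, v⟩`. -/
theorem fix_V {s : G} (hs : s ∈ B.P.UU) (hu : B.P.F.phi W.u (B.P.F.κ s) = B.P.F.κ s)
    (he : B.P.F.phi W.e1 (B.P.F.κ s) = B.P.F.κ s) : ∃ i j, s = W.F.pz i j := by
  obtain ⟨hsX, hsQ⟩ := B.P.mem_UU.1 hs
  rw [B.hQ] at hsQ
  obtain ⟨-, hsf, hsg⟩ := B.mem_X_iff.1 hsX
  have key : ∀ {x : G} {α β : U4}, x ∈ B.P.X → W.F.Is x α β →
      B.P.F.phi x (B.P.F.κ s) = B.P.F.κ s →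
        cp (W.F.T.c s) • β = 0 ∧ cp (W.F.T.c s) * qU β + bU (pu (W.F.T.c s)) β = 0 := by
    intro x α β hx hI h
    obtain ⟨i, hi⟩ := B.P.eq_of_κ hs (B.P.UU_norm hx hs) (by rw [B.P.κ_conj hx hs, h])
    have hc := W.F.T.ρ_conj x (Fr.Is.comm_z W.F hI) s hsQ
    rw [hi, W.F.T.c_mul _ hsQ _ (pw_mem (B.hz ▸ W.F.T.data.z_mem) i), Fr.Is.ap W.F hI] at hc
    have hcz : W.F.T.c (pw B.P.F.z i) = 0 := by
      rcases z2 i with rfl | rfl
      · rw [pw_zero]; exact W.F.T.c_one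
      · rw [pw_one, B.hz]; exact W.F.T.c_z
    rw [hcz, add_zero] at hc
    have h1 := congrArg pu hc
    have h2 := congrArg SuzType.cv hc
    rw [pu_add, pu_add, pu_smul, pu_io, pu_smul, pu_v0, smul_zero, add_zero, left_eq_add] at h1
    have hs0 : ∀ (t : ZMod 2) (w : U4), SuzType.cv (t • io w) = 0 := by
      intro t w
      rcases z2 t with rfl | rfl
      · rw [zero_smul]; rfl
      · rw [one_smul, cv_io]
    have hs1 : ∀ t : ZMod 2, SuzType.cv (t • v0) = t := fun t => by simp [SuzType.cv, v0]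
    rw [cv_add, cv_add, hs0, hs1, add_zero, left_eq_add] at h2
    exact ⟨h1, h2⟩
  obtain ⟨a1, a2⟩ := key B.u_X W.hu hu
  obtain ⟨-, b2⟩ := key B.e_X W.e1_Is he
  have hcp : cp (W.F.T.c s) = 0 := by
    rcases z2 (cp (W.F.T.c s)) with h | h
    · exact h
    · rw [h, one_smul] at a1; exact absurd a1 W0_ne
  rw [hcp, zero_mul, zero_add] at a2 b2
  rw [bU_add_right, a2, add_zero] at b2
  have hsA : s ∈ A W.F.Q W.F.v := W.F.mem_A_iff.2 ⟨hsQ, hcp⟩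
  have hI := W.F.Is_A hsA
  have orth : ∀ {x : G} {β : U4}, W.F.Is x β 0 → s * x = x * s → bU (W.F.κ s) β = 0 := by
    intro x β hx h
    have h' := Fr.Is.comm W.F hI hx
    rw [← h] at h'
    obtain ⟨k, -⟩ := W.F.pz_eq_one (left_eq_mul.mp h')
    rwa [K1, bU_zero_right, bU_zero_right, add_zero, add_zero] at k
  have hk : W.F.κ s = 0 := by
    rcases B.hab with ⟨ha, hb⟩ | ⟨ha, hb⟩
    · exact kill_kappa _ b2 a2 (ha ▸ orth B.hf hsf) (hb ▸ orth B.hg hsg)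
    · exact kill_kappa _ b2 a2 (hb ▸ orth B.hg hsg) (ha ▸ orth B.hf hsf)
  exact Fr.Is.eq_pz W.F (hk ▸ hI)

theorem fix_code {α : U4} (hu : B.P.F.phi W.u α = α) (he : B.P.F.phi W.e1 α = α) :
    α = 0 ∨ α = B.P.F.κ W.F.v := by
  obtain ⟨s, hs, rfl⟩ := B.P.UU_surj α
  obtain ⟨i, j, rfl⟩ := B.fix_V hs hu he
  rw [Fr.pz, ← B.hz, B.P.F.κ_mul (pw_mem B.P.F.T.data.z_mem i) (pw_mem (B.P.mem_UU.1 B.v_UU).2 j),
    B.P.κ_z, zero_add]
  rcases z2 j with rfl | rfl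
  · left; rw [pw_zero]; simpa using B.P.κ_z 0
  · right; rw [pw_one]

theorem pz_comm_ue {i j : ZMod 2} :
    W.F.pz i j * W.u = W.u * W.F.pz i j ∧ W.F.pz i j * W.e1 = W.e1 * W.F.pz i j :=
  ⟨(W.F.pz_comm W.u_mem_D i j).symm,
    (W.F.pz_comm (W.mem_S0.1 (W.Et_le (W.E_le W.e1_mem))).2 i j).symm⟩

/-- The complement. -/
theorem exists_H : ∃ H : Subgroup G, H ≤ B.P.X ∧ Nat.card H = 60 ∧ W.u ∈ H ∧ W.e1 ∈ H ∧
    ∀ x ∈ H, x ∈ B.P.F.Q → x = 1 :=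
  B.P.exists_compl B.u_X B.e_X B.hd W.u_sq e_sq ue_comm B.u_notQ B.e_notQ B.ue_notQ B.hdu B.hde
    (fun _ => B.fix_code) fun s hs h1 h2 => by
      obtain ⟨i, j, rfl⟩ := B.fix_V hs h1 h2
      exact pz_comm_ue

end Base

end Cfsg.Agent.SuzUnique
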