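/-
Generated coset table certificate for the five generator group (FiveBase): see Check.lean, Seed.lean, Orbit.lean.
-/
import Cfsg.Agent.Lib.CosetEnum.Index
import Cfsg.Agent.Lib.SuzUnique.FiveTable

set_option autoImplicit false
set_option maxRecDepth 100000

namespace Cfsg.Agent.SuzUnique
open Cfsg.Agent.CosetEnum

noncomputable def five126_base0_sel0 : ℕ :=
 spread 8 7 0xa0028200080080420040002020

noncomputable def five126_base0_sel1 : ℕ :=
 spread 8 7 0x848821840418026284d213226040108

noncomputable def five126_base0_sel2 : ℕ :=
 spread 8 7 0x1035420d0403501000800480810804

noncomputable def five126_base0_sel3 : ℕ :=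
 spread 8 7 0x37a74801b01814804112044008284252

noncomputable def five126_base0_sel4 : ℕ :=
 spread 8 7 0x4002068018620188911529480

noncomputable def five126_base0_depth : ℕ :=
 0xe0d0d0c0c0c0c0c0c0c0c0c0b0b0b0b0b0b0b0b0b0b0b0b0b0b0b0b0b0a0a0a0a0a0a0a0a0a0a0a0a0a0a0a0a0a0a0a0a0a0a0a0909090909090909090909090909090909090909090909080808080808080808080808080808080807070707070707070707070707060606060606060605050505050404040303020100

noncomputable def five126_base0_mask : ℕ :=
 spread 8 7 0x3fffffffffffffffffffffffffffffff

noncomputable def five126_base0 : OrbitData where
  words := [[0], [1], [2], [3], [4]]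
  sels := [five126_base0_sel0, five126_base0_sel1, five126_base0_sel2, five126_base0_sel3, five126_base0_sel4]
  depth := five126_base0_depth
  mask := five126_base0_mask
  root := 0
  size := 126

noncomputable def five126_base1_sel0 : ℕ :=
 spread 8 7 0x40002004

noncomputable def five126_base1_sel1 : ℕ :=
 spread 8 7 0x10010820401a8

noncomputable def five126_base1_sel2 : ℕ :=
 spread 8 7 0x408400

noncomputable def five126_base1_depth : ℕ :=
 0x6000000000000000000000006000000000606000000000500000400000005000005000400000300030400050002010000

noncomputable def five126_base1_mask : ℕ :=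
 spread 8 7 0x10010c244a5ae

noncomputable def five126_base1 : OrbitData where
  words := [[2], [0, 1], [0, 4]]
  sels := [five126_base1_sel0, five126_base1_sel1, five126_base1_sel2]
  depth := five126_base1_depth
  mask := five126_base1_mask
  root := 1
  size := 16

noncomputable def five126_base2_sel0 : ℕ :=
 spread 8 7 0x2408480

noncomputable def five126_base2_sel1 : ℕ :=
 spread 8 7 0x10010c0042128

noncomputable def five126_base2_depth : ℕ :=
 0x4000000000000000000000004000000000505000000000400000400000003000003000300000500020200040001000000

noncomputable def five126_base2_mask : ℕ :=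
 spread 8 7 0x10010c244a5ac

noncomputable def five126_base2 : OrbitData where
  words := [[4], [0, 1]]
  sels := [five126_base2_sel0, five126_base2_sel1]
  depth := five126_base2_depth
  mask := five126_base2_mask
  root := 2
  size := 15

noncomputable def five126_base3_sel0 : ℕ :=
 spread 8 7 0x20

noncomputable def five126_base3_sel1 : ℕ :=
 spread 8 7 0x480

noncomputable def five126_base3_depth : ℕ :=
 0x200000100010000000000

noncomputable def five126_base3_mask : ℕ :=
 spread 8 7 0x4a8

noncomputable def five126_base3 : OrbitData where
  words := [[0], [4]]
  sels := [five126_base3_sel0, five126_base3_sel1]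
  depth := five126_base3_depth
  mask := five126_base3_mask
  root := 3
  size := 4

/-- A chain of basic orbits. -/
noncomputable def five126_chain : List OrbitData := [five126_base0, five126_base1, five126_base2, five126_base3]

theorem five126_chain_check : (Setup.chainOK five126 five126_chain [] && Nat.beq (Setup.chainSize five126_chain) 120960) = true := by decide +kernel

end Cfsg.Agent.SuzUnique
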