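/-
Consequences of the relations on five of the generators of the Suzuki group (helper16).

* `cox_lift` : checking the relators of a graph presentation
* `five_facts` : with `w = (b c d c d)^5`, the element `w` has order dividing three and commutes with
  `a, b, c, f`
* `twist_mem` : if moreover `e` is given and `w = 1`, then `a` lies in the group generated by `b, d, e`
-/
import Cfsg.Agent.Lib.SuzUnique.FiveBound
import Cfsg.Agent.Lib.SuzUnique.FiveBase
import Cfsg.Agent.Lib.SuzUnique.TwistCert

set_option autoImplicit false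
set_option maxRecDepth 100000

namespace Cfsg.Agent.SuzUnique

open Cfsg.Agent.CosetEnum

theorem cox_lift {α : Type} [DecidableEq α] {G : Type*} [Group G] (edges : List (α × ℕ × α))
    (extra : List (FreeGroup α)) (φ : α → G)
    (h : ∀ x y, (φ x * φ y) ^ Cfsg.Spor.coxLabel edges x y = 1)
    (he : ∀ r ∈ extra, FreeGroup.lift φ r = 1) :
    ∀ r ∈ Cfsg.Spor.coxRelators edges ∪ {r | r ∈ extra}, FreeGroup.lift φ r = 1 := by
  rintro r (⟨x, -, y, -, rfl⟩ | hr)
  · rw [map_pow, map_mul, FreeGroup.lift_apply_of, FreeGroup.lift_apply_of]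
    exact h x y
  · exact he r hr

theorem mul_inv_one {G : Type*} [Group G] {x y : G} (hx : x * x = 1) (hy : y * y = 1)
    (h : x * y = y * x) : (x * y) ^ 2 = 1 := by
  rw [sq, ← mul_assoc, mul_assoc x y x, ← h, ← mul_assoc, hx, one_mul, hy]

theorem pow_swap {G : Type*} [Group G] {x y : G} (n : ℕ) (h : (x * y) ^ n = 1) : (y * x) ^ n = 1 := by
  have e : y * x = y * (x * y) * y⁻¹ := by group
  rw [e, conj_pow, h, mul_one, mul_inv_cancel]

/-- The table of the five generator group on 126 cosets is faithful. -/
theorem five_table : Setup.Table fiveSetup five126 [Five.a, Five.b, Five.c, Five.f] := by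
  have h0 := Setup.seed_fixes_id (hs := [Five.a, Five.b, Five.c, Five.f]) fiveSetup_gens five_letters
    five126_seed0_check (by decide +kernel)
  refine Setup.Table.mk' (ext := [five126_seed0.tgt]) fiveSetup_gens five126_check (by decide +kernel)
    fun w hw => ?_
  rw [List.mem_singleton.mp hw]; exact h0

theorem five_injective :
    Function.Injective (Setup.hom five_table.gens five_table.letters five_table.perm five_table.rels) := by
  have hch := five126_chain_check
  simp only [Bool.and_eq_true] at hch
  exact (Setup.card_eq_of_bounds five_table.gens five_table.letters five_table.perm five_table.rels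
    five126_chain hch.1 (Setup.bound_univ fiveSetup_gens five_letters five_bound0 (by decide +kernel))
    (beq_iff.mp hch.2)).2

/-- A word closed in the table is trivial. -/
theorem five_word {r : FreeGroup Five.Gen} (h : five126.closed (fiveSetup.wl five126 r) = true) :
    PresentedGroup.mk fiveSetup.rels r = 1 := by
  refine five_injective ?_
  rw [Setup.hom_mk, map_one]
  exact Setup.closed_ev five_table.perm h

open Five in
/-- The element `w` of the five generator group. -/
def fiveW : FreeGroup Five.Gen := (b * c * d * c * d) ^ 5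

open Five in
/-- The words that are trivial. -/
def fiveWords : List (FreeGroup Five.Gen) :=
  [fiveW ^ 3, fiveW * a * fiveW⁻¹ * a, fiveW * b * fiveW⁻¹ * b, fiveW * c * fiveW⁻¹ * c,
    fiveW * f * fiveW⁻¹ * f]

theorem fiveWords_closed : (fiveWords.all fun r => five126.closed (fiveSetup.wl five126 r)) = true := by
  decide +kernel

variable {G : Type*} [Group G]

/-- The consequences in an arbitrary group. -/
theorem five_facts {a b c d f : G} (ha : a * a = 1) (hb : b * b = 1) (hc : c * c = 1) (hd : d * d = 1)
    (hf : f * f = 1) (hac : a * c = c * a) (had : a * d = d * a) (haf : a * f = f * a)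
    (hbd : b * d = d * b) (hcf : c * f = f * c) (hdf : d * f = f * d) (hab : (a * b) ^ 5 = 1)
    (hbc : (b * c) ^ 3 = 1) (hcd : (c * d) ^ 8 = 1) (hbf : (b * f) ^ 3 = 1) (hcd4 : (c * d) ^ 4 = a)
    (h5 : (a * b * c * f) ^ 5 = 1) :
    ((b * c * d * c * d) ^ 5) ^ 3 = 1 ∧
      Commute ((b * c * d * c * d) ^ 5) a ∧ Commute ((b * c * d * c * d) ^ 5) b ∧
      Commute ((b * c * d * c * d) ^ 5) c ∧ Commute ((b * c * d * c * d) ^ 5) f := by
  let φ : Five.Gen → G := fun x => match x with
    | .a => a | .b => b | .c => c | .d => d | .f => f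
  have h : ∀ r ∈ fiveSetup.rels, FreeGroup.lift φ r = 1 := by
    refine cox_lift Five.edges Five.extra φ (fun x y => ?_) fun r hr => ?_
    · have e1 : ∀ u : G, u * u = 1 → (u * u) ^ 1 = 1 := fun u hu => by rw [pow_one, hu]
      cases x <;> cases y
      · exact e1 a ha
      · exact hab
      · exact mul_inv_one ha hc hac
      · exact mul_inv_one ha hd had
      · exact mul_inv_one ha hf haf
      · exact pow_swap 5 hab
      · exact e1 b hb
      · exact hbc
      · exact mul_inv_one hb hd hbd
      · exact hbf
      · exact mul_inv_one hc ha hac.symm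
      · exact pow_swap 3 hbc
      · exact e1 c hc
      · exact hcd
      · exact mul_inv_one hc hf hcf
      · exact mul_inv_one hd ha had.symm
      · exact mul_inv_one hd hb hbd.symm
      · exact pow_swap 8 hcd
      · exact e1 d hd
      · exact mul_inv_one hd hf hdf
      · exact mul_inv_one hf ha haf.symm
      · exact pow_swap 3 hbf
      · exact mul_inv_one hf hc hcf.symm
      · exact mul_inv_one hf hd hdf.symm
      · exact e1 f hf
    · simp only [Five.extra, List.mem_cons, List.not_mem_nil, or_false] at hr
      rcases hr with rfl | rfl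
      · simp [φ, hcd4]
      · simpa [φ] using h5
  let π := PresentedGroup.toGroup h
  have key : ∀ r ∈ fiveWords, FreeGroup.lift φ r = 1 := by
    intro r hr
    have h1 := five_word (List.all_eq_true.mp fiveWords_closed r hr)
    have h2 : π (PresentedGroup.mk fiveSetup.rels r) = FreeGroup.lift φ r :=
      DFunLike.congr_fun (FreeGroup.ext_hom (f := π.comp (PresentedGroup.mk fiveSetup.rels))
        (g := FreeGroup.lift φ) (fun x => by
          show π (PresentedGroup.of x) = _
          rw [PresentedGroup.toGroup.of, FreeGroup.lift_apply_of])) r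
    rw [← h2, h1, map_one]
  set w := (b * c * d * c * d) ^ 5 with hw
  have hw' : FreeGroup.lift φ fiveW = w := by simp [fiveW, φ, hw]
  have com : ∀ {x : FreeGroup Five.Gen} {y : G}, fiveW * x * fiveW⁻¹ * x ∈ fiveWords →
      FreeGroup.lift φ x = y → y * y = 1 → Commute w y := by
    intro x y hm hxy hy
    have h1 := key _ hm
    simp only [map_mul, map_inv, hw', hxy] at h1
    have h2 : w * y * w⁻¹ = y := by
      calc w * y * w⁻¹ = w * y * w⁻¹ * (y * y) := by rw [hy, mul_one]
        _ = (w * y * w⁻¹ * y) * y := by group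
        _ = y := by rw [h1, one_mul]
    exact mul_inv_eq_iff_eq_mul.mp h2
  refine ⟨?_, com (x := Five.a) (by simp [fiveWords]) (by simp [φ]) ha,
    com (x := Five.b) (by simp [fiveWords]) (by simp [φ]) hb,
    com (x := Five.c) (by simp [fiveWords]) (by simp [φ]) hc,
    com (x := Five.f) (by simp [fiveWords]) (by simp [φ]) hf⟩
  have h1 := key (fiveW ^ 3) (by simp [fiveWords])
  rwa [map_pow, hw'] at h1

/-- The letters of the derivation `twistCert`. -/
def twistEl (a b c d e : G) : ℕ → G
  | 0 => a
  | 1 => b
  | 2 => c
  | 3 => d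
  | 4 => e
  | _ => 1

/-- If the twisted relations hold, `a` lies in the group generated by `b, d, e`. -/
theorem twist_mem {a b c d e : G} (ha : a * a = 1) (hb : b * b = 1) (hc : c * c = 1) (hd : d * d = 1)
    (he : e * e = 1) (hac : a * c = c * a) (had : a * d = d * a) (hae : a * e = e * a)
    (hbd : b * d = d * b) (hbe : b * e = e * b) (hce : c * e = e * c) (hab : (a * b) ^ 5 = 1)
    (hbc : (b * c) ^ 3 = 1) (hde : (d * e) ^ 3 = 1) (hcd4 : (c * d) ^ 4 = a)
    (hw : (b * c * d * c * d) ^ 5 = 1) : a ∈ Subgroup.closure ({b, d, e} : Set G) := by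
  set H := Subgroup.closure ({b, d, e} : Set G)
  let el := twistEl a b c d e
  have hcd8 : (c * d) ^ 8 = 1 := by
    rw [show 8 = 4 * 2 from rfl, pow_mul, hcd4, sq, ha]
  have hdc4 : (d * c) ^ 4 = a := by
    have e1 : (d * c) ^ 4 * (c * d) ^ 4 = 1 := by
      have e2 : d * c = (c * d)⁻¹ :=
        eq_inv_of_mul_eq_one_left (by rw [mul_assoc, ← mul_assoc c c d, hc, one_mul, hd])
      rw [e2, inv_pow, inv_mul_cancel]
    rw [hcd4] at e1
    exact (eq_inv_of_mul_eq_one_left e1).trans (inv_eq_of_mul_eq_one_right ha)
  have n1 := mul_inv_one ha hc hac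
  have n2 := mul_inv_one ha hd had
  have n3 := mul_inv_one ha he hae
  have n4 := mul_inv_one hb hd hbd
  have n5 := mul_inv_one hb he hbe
  have n6 := mul_inv_one hc he hce
  have m1 := pow_swap 2 n1
  have m2 := pow_swap 2 n2
  have m3 := pow_swap 2 n3
  have m4 := pow_swap 2 n4
  have m5 := pow_swap 2 n5
  have m6 := pow_swap 2 n6
  have hba := pow_swap 5 hab
  have hcb := pow_swap 3 hbc
  have hed := pow_swap 3 hde
  have hdc8 := pow_swap 8 hcd8
  have hadc : a * (d * c) ^ 4 = 1 := by rw [hdc4, ha]
  have hacd : a * (c * d) ^ 4 = 1 := by rw [hcd4, ha]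
  simp only [pow_succ, pow_zero, one_mul, mul_assoc] at n1 n2 n3 n4 n5 n6 m1 m2 m3 m4 m5 m6 hab hba hbc hcb hde hed hcd8 hdc8 hadc hacd hw
  have hfix : ∀ g ∈ H, g • ((1 : G) : G ⧸ H) = ((1 : G) : G ⧸ H) := fun g hg =>
    QuotientGroup.eq.mpr (by simpa using hg)
  have hev : ∀ w : List ℕ, Data.ev el w = w.foldl (fun acc x => el x * acc) 1 := by
    have key : ∀ (w : List ℕ) (acc : G),
        w.foldl (fun acc x => el x * acc) acc = Data.ev el w * acc := by
      intro w
      induction w with
      | nil => intro acc; simp [Data.ev]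
      | cons x t ih => intro acc; rw [List.foldl_cons, ih]; simp [Data.ev, mul_assoc]
    intro w; rw [key, mul_one]
  have h := Deriv.target_fixes (D := twistCert) twistCert_check el ((1 : G) : G ⧸ H) (fun x hx => by
      have hx5 : x < 5 := hx
      interval_cases x <;> assumption) (fun w hw' => by
      simp only [twistCert, List.mem_cons, List.not_mem_nil, or_false] at hw'
      rw [hev]
      rcases hw' with rfl | rfl | rfl | rfl | rfl | rfl | rfl | rfl | rfl | rfl | rfl | rfl | rfl | rfl |
        rfl | rfl | rfl | rfl | rfl | rfl | rfl | rfl | rfl | rfl | rfl | rfl | rfl | rfl <;>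
        simp only [List.foldl, el, twistEl, mul_one]
      all_goals assumption) (fun w hw' => by
      simp only [twistCert, List.mem_cons, List.not_mem_nil, or_false] at hw'
      rw [hev]
      rcases hw' with rfl | rfl | rfl <;> simp only [List.foldl, el, twistEl, mul_one] <;>
        exact hfix _ (Subgroup.subset_closure (by simp)))
  rw [hev] at h
  have h' : a • ((1 : G) : G ⧸ H) = ((1 : G) : G ⧸ H) := by
    simpa [twistCert, el, twistEl] using h
  have h2 := QuotientGroup.eq.mp h'.symm
  simpa using h2

end Cfsg.Agent.SuzUnique
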