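/-
The involutions of the special linear group of degree three over four elements, as matrices; generated data
(helper16).
-/
import Cfsg.Agent.Lib.SU32.Basic

set_option autoImplicit false

namespace Cfsg.Agent.SuzUnique

open Cfsg.Agent.SU32

/-- The first involution. -/
def planeF : M3 := ⟨.o, .z, .z, .z, .o, .z, .z, .o, .o⟩

/-- The 315 involutions. -/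
def planeInvs : List M3 := [
  ⟨.o, .z, .z, .z, .o, .z, .z, .o, .o⟩,
  ⟨.o, .z, .z, .z, .o, .z, .z, .w, .o⟩,
  ⟨.o, .z, .z, .z, .o, .z, .z, .w2, .o⟩,
  ⟨.o, .z, .z, .z, .o, .z, .o, .z, .o⟩,
  ⟨.o, .z, .z, .z, .o, .z, .o, .o, .o⟩,
  ⟨.o, .z, .z, .z, .o, .z, .o, .w, .o⟩,
  ⟨.o, .z, .z, .z, .o, .z, .o, .w2, .o⟩,
  ⟨.o, .z, .z, .z, .o, .z, .w, .z, .o⟩,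
  ⟨.o, .z, .z, .z, .o, .z, .w, .o, .o⟩,
  ⟨.o, .z, .z, .z, .o, .z, .w, .w, .o⟩,
  ⟨.o, .z, .z, .z, .o, .z, .w, .w2, .o⟩,
  ⟨.o, .z, .z, .z, .o, .z, .w2, .z, .o⟩,
  ⟨.o, .z, .z, .z, .o, .z, .w2, .o, .o⟩,
  ⟨.o, .z, .z, .z, .o, .z, .w2, .w, .o⟩,
  ⟨.o, .z, .z, .z, .o, .z, .w2, .w2, .o⟩,
  ⟨.o, .z, .z, .z, .o, .o, .z, .z, .o⟩,
  ⟨.o, .z, .z, .z, .o, .w, .z, .z, .o⟩,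
  ⟨.o, .z, .z, .z, .o, .w2, .z, .z, .o⟩,
  ⟨.o, .z, .z, .o, .o, .z, .z, .z, .o⟩,
  ⟨.o, .z, .z, .o, .o, .o, .z, .z, .o⟩,
  ⟨.o, .z, .z, .o, .o, .w, .z, .z, .o⟩,
  ⟨.o, .z, .z, .o, .o, .w2, .z, .z, .o⟩,
  ⟨.o, .z, .z, .w, .o, .z, .z, .z, .o⟩,
  ⟨.o, .z, .z, .w, .o, .o, .z, .z, .o⟩,
  ⟨.o, .z, .z, .w, .o, .w, .z, .z, .o⟩,
  ⟨.o, .z, .z, .w, .o, .w2, .z, .z, .o⟩,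
  ⟨.o, .z, .z, .w2, .o, .z, .z, .z, .o⟩,
  ⟨.o, .z, .z, .w2, .o, .o, .z, .z, .o⟩,
  ⟨.o, .z, .z, .w2, .o, .w, .z, .z, .o⟩,
  ⟨.o, .z, .z, .w2, .o, .w2, .z, .z, .o⟩,
  ⟨.o, .z, .z, .z, .z, .o, .z, .o, .z⟩,
  ⟨.o, .z, .z, .z, .w2, .w, .z, .w, .w2⟩,
  ⟨.o, .z, .z, .z, .w, .w2, .z, .w2, .w⟩,
  ⟨.o, .z, .z, .o, .o, .z, .o, .z, .o⟩,
  ⟨.o, .z, .z, .o, .z, .o, .o, .o, .z⟩,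
  ⟨.o, .z, .z, .o, .w2, .w, .o, .w, .w2⟩,
  ⟨.o, .z, .z, .o, .w, .w2, .o, .w2, .w⟩,
  ⟨.o, .z, .z, .w, .o, .z, .w, .z, .o⟩,
  ⟨.o, .z, .z, .w, .z, .o, .w, .o, .z⟩,
  ⟨.o, .z, .z, .w, .w2, .w, .w, .w, .w2⟩,
  ⟨.o, .z, .z, .w, .w, .w2, .w, .w2, .w⟩,
  ⟨.o, .z, .z, .w2, .o, .z, .w2, .z, .o⟩,
  ⟨.o, .z, .z, .w2, .z, .o, .w2, .o, .z⟩,
  ⟨.o, .z, .z, .w2, .w2, .w, .w2, .w, .w2⟩,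
  ⟨.o, .z, .z, .w2, .w, .w2, .w2, .w2, .w⟩,
  ⟨.o, .z, .z, .z, .z, .w2, .z, .w, .z⟩,
  ⟨.o, .z, .z, .z, .w2, .o, .z, .w2, .w2⟩,
  ⟨.o, .z, .z, .z, .w, .w, .z, .o, .w⟩,
  ⟨.o, .z, .z, .o, .o, .z, .w, .z, .o⟩,
  ⟨.o, .z, .z, .o, .z, .w2, .w, .w, .z⟩,
  ⟨.o, .z, .z, .o, .w2, .o, .w, .w2, .w2⟩,
  ⟨.o, .z, .z, .o, .w, .w, .w, .o, .w⟩,
  ⟨.o, .z, .z, .w, .o, .z, .w2, .z, .o⟩,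
  ⟨.o, .z, .z, .w, .z, .w2, .w2, .w, .z⟩,
  ⟨.o, .z, .z, .w, .w2, .o, .w2, .w2, .w2⟩,
  ⟨.o, .z, .z, .w, .w, .w, .w2, .o, .w⟩,
  ⟨.o, .z, .z, .w2, .o, .z, .o, .z, .o⟩,
  ⟨.o, .z, .z, .w2, .z, .w2, .o, .w, .z⟩,
  ⟨.o, .z, .z, .w2, .w2, .o, .o, .w2, .w2⟩,
  ⟨.o, .z, .z, .w2, .w, .w, .o, .o, .w⟩,
  ⟨.o, .z, .z, .z, .z, .w, .z, .w2, .z⟩,
  ⟨.o, .z, .z, .z, .w2, .w2, .z, .o, .w2⟩,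
  ⟨.o, .z, .z, .z, .w, .o, .z, .w, .w⟩,
  ⟨.o, .z, .z, .o, .o, .z, .w2, .z, .o⟩,
  ⟨.o, .z, .z, .o, .z, .w, .w2, .w2, .z⟩,
  ⟨.o, .z, .z, .o, .w2, .w2, .w2, .o, .w2⟩,
  ⟨.o, .z, .z, .o, .w, .o, .w2, .w, .w⟩,
  ⟨.o, .z, .z, .w, .o, .z, .o, .z, .o⟩,
  ⟨.o, .z, .z, .w, .z, .w, .o, .w2, .z⟩,
  ⟨.o, .z, .z, .w, .w2, .w2, .o, .o, .w2⟩,
  ⟨.o, .z, .z, .w, .w, .o, .o, .w, .w⟩,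
  ⟨.o, .z, .z, .w2, .o, .z, .w, .z, .o⟩,
  ⟨.o, .z, .z, .w2, .z, .w, .w, .w2, .z⟩,
  ⟨.o, .z, .z, .w2, .w2, .w2, .w, .o, .w2⟩,
  ⟨.o, .z, .z, .w2, .w, .o, .w, .w, .w⟩,
  ⟨.o, .z, .o, .z, .o, .z, .z, .z, .o⟩,
  ⟨.o, .z, .w, .z, .o, .z, .z, .z, .o⟩,
  ⟨.o, .z, .w2, .z, .o, .z, .z, .z, .o⟩,
  ⟨.o, .o, .z, .z, .o, .z, .z, .z, .o⟩,
  ⟨.o, .o, .o, .z, .o, .z, .z, .z, .o⟩,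
  ⟨.o, .o, .w, .z, .o, .z, .z, .z, .o⟩,
  ⟨.o, .o, .w2, .z, .o, .z, .z, .z, .o⟩,
  ⟨.o, .w, .z, .z, .o, .z, .z, .z, .o⟩,
  ⟨.o, .w, .o, .z, .o, .z, .z, .z, .o⟩,
  ⟨.o, .w, .w, .z, .o, .z, .z, .z, .o⟩,
  ⟨.o, .w, .w2, .z, .o, .z, .z, .z, .o⟩,
  ⟨.o, .w2, .z, .z, .o, .z, .z, .z, .o⟩,
  ⟨.o, .w2, .o, .z, .o, .z, .z, .z, .o⟩,
  ⟨.o, .w2, .w, .z, .o, .z, .z, .z, .o⟩,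
  ⟨.o, .w2, .w2, .z, .o, .z, .z, .z, .o⟩,
  ⟨.o, .o, .z, .z, .o, .z, .z, .o, .o⟩,
  ⟨.o, .w, .z, .z, .o, .z, .z, .w, .o⟩,
  ⟨.o, .w2, .z, .z, .o, .z, .z, .w2, .o⟩,
  ⟨.z, .z, .o, .z, .o, .z, .o, .z, .z⟩,
  ⟨.z, .o, .o, .z, .o, .z, .o, .o, .z⟩,
  ⟨.z, .w, .o, .z, .o, .z, .o, .w, .z⟩,
  ⟨.z, .w2, .o, .z, .o, .z, .o, .w2, .z⟩,
  ⟨.w2, .z, .w, .z, .o, .z, .w, .z, .w2⟩,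
  ⟨.w2, .o, .w, .z, .o, .z, .w, .o, .w2⟩,
  ⟨.w2, .w, .w, .z, .o, .z, .w, .w, .w2⟩,
  ⟨.w2, .w2, .w, .z, .o, .z, .w, .w2, .w2⟩,
  ⟨.w, .z, .w2, .z, .o, .z, .w2, .z, .w⟩,
  ⟨.w, .o, .w2, .z, .o, .z, .w2, .o, .w⟩,
  ⟨.w, .w, .w2, .z, .o, .z, .w2, .w, .w⟩,
  ⟨.w, .w2, .w2, .z, .o, .z, .w2, .w2, .w⟩,
  ⟨.o, .o, .z, .z, .o, .z, .z, .w, .o⟩,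
  ⟨.o, .w, .z, .z, .o, .z, .z, .w2, .o⟩,
  ⟨.o, .w2, .z, .z, .o, .z, .z, .o, .o⟩,
  ⟨.z, .z, .w2, .z, .o, .z, .w, .z, .z⟩,
  ⟨.z, .o, .w2, .z, .o, .z, .w, .w, .z⟩,
  ⟨.z, .w, .w2, .z, .o, .z, .w, .w2, .z⟩,
  ⟨.z, .w2, .w2, .z, .o, .z, .w, .o, .z⟩,
  ⟨.w2, .z, .o, .z, .o, .z, .w2, .z, .w2⟩,
  ⟨.w2, .o, .o, .z, .o, .z, .w2, .w, .w2⟩,
  ⟨.w2, .w, .o, .z, .o, .z, .w2, .w2, .w2⟩,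
  ⟨.w2, .w2, .o, .z, .o, .z, .w2, .o, .w2⟩,
  ⟨.w, .z, .w, .z, .o, .z, .o, .z, .w⟩,
  ⟨.w, .o, .w, .z, .o, .z, .o, .w, .w⟩,
  ⟨.w, .w, .w, .z, .o, .z, .o, .w2, .w⟩,
  ⟨.w, .w2, .w, .z, .o, .z, .o, .o, .w⟩,
  ⟨.o, .o, .z, .z, .o, .z, .z, .w2, .o⟩,
  ⟨.o, .w, .z, .z, .o, .z, .z, .o, .o⟩,
  ⟨.o, .w2, .z, .z, .o, .z, .z, .w, .o⟩,
  ⟨.z, .z, .w, .z, .o, .z, .w2, .z, .z⟩,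
  ⟨.z, .o, .w, .z, .o, .z, .w2, .w2, .z⟩,
  ⟨.z, .w, .w, .z, .o, .z, .w2, .o, .z⟩,
  ⟨.z, .w2, .w, .z, .o, .z, .w2, .w, .z⟩,
  ⟨.w2, .z, .w2, .z, .o, .z, .o, .z, .w2⟩,
  ⟨.w2, .o, .w2, .z, .o, .z, .o, .w2, .w2⟩,
  ⟨.w2, .w, .w2, .z, .o, .z, .o, .o, .w2⟩,
  ⟨.w2, .w2, .w2, .z, .o, .z, .o, .w, .w2⟩,
  ⟨.w, .z, .o, .z, .o, .z, .w, .z, .w⟩,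
  ⟨.w, .o, .o, .z, .o, .z, .w, .w2, .w⟩,
  ⟨.w, .w, .o, .z, .o, .z, .w, .o, .w⟩,
  ⟨.w, .w2, .o, .z, .o, .z, .w, .w, .w⟩,
  ⟨.o, .z, .o, .z, .o, .o, .z, .z, .o⟩,
  ⟨.o, .z, .w, .z, .o, .w, .z, .z, .o⟩,
  ⟨.o, .z, .w2, .z, .o, .w2, .z, .z, .o⟩,
  ⟨.z, .o, .z, .o, .z, .z, .z, .z, .o⟩,
  ⟨.z, .o, .o, .o, .z, .o, .z, .z, .o⟩,
  ⟨.z, .o, .w, .o, .z, .w, .z, .z, .o⟩,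
  ⟨.z, .o, .w2, .o, .z, .w2, .z, .z, .o⟩,
  ⟨.w2, .w, .z, .w, .w2, .z, .z, .z, .o⟩,
  ⟨.w2, .w, .o, .w, .w2, .o, .z, .z, .o⟩,
  ⟨.w2, .w, .w, .w, .w2, .w, .z, .z, .o⟩,
  ⟨.w2, .w, .w2, .w, .w2, .w2, .z, .z, .o⟩,
  ⟨.w, .w2, .z, .w2, .w, .z, .z, .z, .o⟩,
  ⟨.w, .w2, .o, .w2, .w, .o, .z, .z, .o⟩,
  ⟨.w, .w2, .w, .w2, .w, .w, .z, .z, .o⟩,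
  ⟨.w, .w2, .w2, .w2, .w, .w2, .z, .z, .o⟩,
  ⟨.o, .o, .o, .z, .z, .o, .z, .o, .z⟩,
  ⟨.o, .w, .w, .z, .w2, .w, .z, .w, .w2⟩,
  ⟨.o, .w2, .w2, .z, .w, .w2, .z, .w2, .w⟩,
  ⟨.z, .z, .o, .o, .o, .o, .o, .z, .z⟩,
  ⟨.z, .o, .z, .o, .z, .z, .o, .o, .o⟩,
  ⟨.z, .w, .w2, .o, .w2, .w2, .o, .w, .w⟩,
  ⟨.z, .w2, .w, .o, .w, .w, .o, .w2, .w2⟩,
  ⟨.w2, .z, .w, .w, .o, .w, .w, .z, .w2⟩,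
  ⟨.w2, .o, .w2, .w, .z, .w2, .w, .o, .w⟩,
  ⟨.w2, .w, .z, .w, .w2, .z, .w, .w, .o⟩,
  ⟨.w2, .w2, .o, .w, .w, .o, .w, .w2, .z⟩,
  ⟨.w, .z, .w2, .w2, .o, .w2, .w2, .z, .w⟩,
  ⟨.w, .o, .w, .w2, .z, .w, .w2, .o, .w2⟩,
  ⟨.w, .w, .o, .w2, .w2, .o, .w2, .w, .z⟩,
  ⟨.w, .w2, .z, .w2, .w, .z, .w2, .w2, .o⟩,
  ⟨.o, .o, .w2, .z, .z, .w2, .z, .w, .z⟩,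
  ⟨.o, .w, .o, .z, .w2, .o, .z, .w2, .w2⟩,
  ⟨.o, .w2, .w, .z, .w, .w, .z, .o, .w⟩,
  ⟨.z, .z, .w2, .o, .o, .w2, .w, .z, .z⟩,
  ⟨.z, .o, .z, .o, .z, .z, .w, .w, .o⟩,
  ⟨.z, .w, .w, .o, .w2, .w, .w, .w2, .w⟩,
  ⟨.z, .w2, .o, .o, .w, .o, .w, .o, .w2⟩,
  ⟨.w2, .z, .o, .w, .o, .o, .w2, .z, .w2⟩,
  ⟨.w2, .o, .w, .w, .z, .w, .w2, .w, .w⟩,
  ⟨.w2, .w, .z, .w, .w2, .z, .w2, .w2, .o⟩,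
  ⟨.w2, .w2, .w2, .w, .w, .w2, .w2, .o, .z⟩,
  ⟨.w, .z, .w, .w2, .o, .w, .o, .z, .w⟩,
  ⟨.w, .o, .o, .w2, .z, .o, .o, .w, .w2⟩,
  ⟨.w, .w, .w2, .w2, .w2, .w2, .o, .w2, .z⟩,
  ⟨.w, .w2, .z, .w2, .w, .z, .o, .o, .o⟩,
  ⟨.o, .o, .w, .z, .z, .w, .z, .w2, .z⟩,
  ⟨.o, .w, .w2, .z, .w2, .w2, .z, .o, .w2⟩,
  ⟨.o, .w2, .o, .z, .w, .o, .z, .w, .w⟩,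
  ⟨.z, .z, .w, .o, .o, .w, .w2, .z, .z⟩,
  ⟨.z, .o, .z, .o, .z, .z, .w2, .w2, .o⟩,
  ⟨.z, .w, .o, .o, .w2, .o, .w2, .o, .w⟩,
  ⟨.z, .w2, .w2, .o, .w, .w2, .w2, .w, .w2⟩,
  ⟨.w2, .z, .w2, .w, .o, .w2, .o, .z, .w2⟩,
  ⟨.w2, .o, .o, .w, .z, .o, .o, .w2, .w⟩,
  ⟨.w2, .w, .z, .w, .w2, .z, .o, .o, .o⟩,
  ⟨.w2, .w2, .w, .w, .w, .w, .o, .w, .z⟩,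
  ⟨.w, .z, .o, .w2, .o, .o, .w, .z, .w⟩,
  ⟨.w, .o, .w2, .w2, .z, .w2, .w, .w2, .w2⟩,
  ⟨.w, .w, .w, .w2, .w2, .w, .w, .o, .z⟩,
  ⟨.w, .w2, .z, .w2, .w, .z, .w, .w, .o⟩,
  ⟨.o, .z, .o, .z, .o, .w, .z, .z, .o⟩,
  ⟨.o, .z, .w, .z, .o, .w2, .z, .z, .o⟩,
  ⟨.o, .z, .w2, .z, .o, .o, .z, .z, .o⟩,
  ⟨.z, .w2, .z, .w, .z, .z, .z, .z, .o⟩,
  ⟨.z, .w2, .o, .w, .z, .w, .z, .z, .o⟩,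
  ⟨.z, .w2, .w, .w, .z, .w2, .z, .z, .o⟩,
  ⟨.z, .w2, .w2, .w, .z, .o, .z, .z, .o⟩,
  ⟨.w2, .o, .z, .w2, .w2, .z, .z, .z, .o⟩,
  ⟨.w2, .o, .o, .w2, .w2, .w, .z, .z, .o⟩,
  ⟨.w2, .o, .w, .w2, .w2, .w2, .z, .z, .o⟩,
  ⟨.w2, .o, .w2, .w2, .w2, .o, .z, .z, .o⟩,
  ⟨.w, .w, .z, .o, .w, .z, .z, .z, .o⟩,
  ⟨.w, .w, .o, .o, .w, .w, .z, .z, .o⟩,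
  ⟨.w, .w, .w, .o, .w, .w2, .z, .z, .o⟩,
  ⟨.w, .w, .w2, .o, .w, .o, .z, .z, .o⟩,
  ⟨.o, .o, .w, .z, .w2, .w2, .z, .o, .w2⟩,
  ⟨.o, .w, .w2, .z, .w, .o, .z, .w, .w⟩,
  ⟨.o, .w2, .o, .z, .z, .w, .z, .w2, .z⟩,
  ⟨.z, .z, .o, .w, .o, .w, .o, .z, .z⟩,
  ⟨.z, .o, .w2, .w, .w2, .o, .o, .o, .w⟩,
  ⟨.z, .w, .w, .w, .w, .w2, .o, .w, .w2⟩,
  ⟨.z, .w2, .z, .w, .z, .z, .o, .w2, .o⟩,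
  ⟨.w2, .z, .w, .w2, .o, .w2, .w, .z, .w2⟩,
  ⟨.w2, .o, .z, .w2, .w2, .z, .w, .o, .o⟩,
  ⟨.w2, .w, .o, .w2, .w, .w, .w, .w, .z⟩,
  ⟨.w2, .w2, .w2, .w2, .z, .o, .w, .w2, .w⟩,
  ⟨.w, .z, .w2, .o, .o, .o, .w2, .z, .w⟩,
  ⟨.w, .o, .o, .o, .w2, .w, .w2, .o, .z⟩,
  ⟨.w, .w, .z, .o, .w, .z, .w2, .w, .o⟩,
  ⟨.w, .w2, .w, .o, .z, .w2, .w2, .w2, .w2⟩,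
  ⟨.o, .o, .o, .z, .w2, .w, .z, .w, .w2⟩,
  ⟨.o, .w, .w, .z, .w, .w2, .z, .w2, .w⟩,
  ⟨.o, .w2, .w2, .z, .z, .o, .z, .o, .z⟩,
  ⟨.z, .z, .w2, .w, .o, .o, .w, .z, .z⟩,
  ⟨.z, .o, .w, .w, .w2, .w2, .w, .w, .w⟩,
  ⟨.z, .w, .o, .w, .w, .w, .w, .w2, .w2⟩,
  ⟨.z, .w2, .z, .w, .z, .z, .w, .o, .o⟩,
  ⟨.w2, .z, .o, .w2, .o, .w, .w2, .z, .w2⟩,
  ⟨.w2, .o, .z, .w2, .w2, .z, .w2, .w, .o⟩,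
  ⟨.w2, .w, .w2, .w2, .w, .o, .w2, .w2, .z⟩,
  ⟨.w2, .w2, .w, .w2, .z, .w2, .w2, .o, .w⟩,
  ⟨.w, .z, .w, .o, .o, .w2, .o, .z, .w⟩,
  ⟨.w, .o, .w2, .o, .w2, .o, .o, .w, .z⟩,
  ⟨.w, .w, .z, .o, .w, .z, .o, .w2, .o⟩,
  ⟨.w, .w2, .o, .o, .z, .w, .o, .o, .w2⟩,
  ⟨.o, .o, .w2, .z, .w2, .o, .z, .w2, .w2⟩,
  ⟨.o, .w, .o, .z, .w, .w, .z, .o, .w⟩,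
  ⟨.o, .w2, .w, .z, .z, .w2, .z, .w, .z⟩,
  ⟨.z, .z, .w, .w, .o, .w2, .w2, .z, .z⟩,
  ⟨.z, .o, .o, .w, .w2, .w, .w2, .w2, .w⟩,
  ⟨.z, .w, .w2, .w, .w, .o, .w2, .o, .w2⟩,
  ⟨.z, .w2, .z, .w, .z, .z, .w2, .w, .o⟩,
  ⟨.w2, .z, .w2, .w2, .o, .o, .o, .z, .w2⟩,
  ⟨.w2, .o, .z, .w2, .w2, .z, .o, .w2, .o⟩,
  ⟨.w2, .w, .w, .w2, .w, .w2, .o, .o, .z⟩,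
  ⟨.w2, .w2, .o, .w2, .z, .w, .o, .w, .w⟩,
  ⟨.w, .z, .o, .o, .o, .w, .w, .z, .w⟩,
  ⟨.w, .o, .w, .o, .w2, .w2, .w, .w2, .z⟩,
  ⟨.w, .w, .z, .o, .w, .z, .w, .o, .o⟩,
  ⟨.w, .w2, .w2, .o, .z, .o, .w, .w, .w2⟩,
  ⟨.o, .z, .o, .z, .o, .w2, .z, .z, .o⟩,
  ⟨.o, .z, .w, .z, .o, .o, .z, .z, .o⟩,
  ⟨.o, .z, .w2, .z, .o, .w, .z, .z, .o⟩,
  ⟨.z, .w, .z, .w2, .z, .z, .z, .z, .o⟩,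
  ⟨.z, .w, .o, .w2, .z, .w2, .z, .z, .o⟩,
  ⟨.z, .w, .w, .w2, .z, .o, .z, .z, .o⟩,
  ⟨.z, .w, .w2, .w2, .z, .w, .z, .z, .o⟩,
  ⟨.w2, .w2, .z, .o, .w2, .z, .z, .z, .o⟩,
  ⟨.w2, .w2, .o, .o, .w2, .w2, .z, .z, .o⟩,
  ⟨.w2, .w2, .w, .o, .w2, .o, .z, .z, .o⟩,
  ⟨.w2, .w2, .w2, .o, .w2, .w, .z, .z, .o⟩,
  ⟨.w, .o, .z, .w, .w, .z, .z, .z, .o⟩,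
  ⟨.w, .o, .o, .w, .w, .w2, .z, .z, .o⟩,
  ⟨.w, .o, .w, .w, .w, .o, .z, .z, .o⟩,
  ⟨.w, .o, .w2, .w, .w, .w, .z, .z, .o⟩,
  ⟨.o, .o, .w2, .z, .w, .w, .z, .o, .w⟩,
  ⟨.o, .w, .o, .z, .z, .w2, .z, .w, .z⟩,
  ⟨.o, .w2, .w, .z, .w2, .o, .z, .w2, .w2⟩,
  ⟨.z, .z, .o, .w2, .o, .w2, .o, .z, .z⟩,
  ⟨.z, .o, .w, .w2, .w, .o, .o, .o, .w2⟩,
  ⟨.z, .w, .z, .w2, .z, .z, .o, .w, .o⟩,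
  ⟨.z, .w2, .w2, .w2, .w2, .w, .o, .w2, .w⟩,
  ⟨.w2, .z, .w, .o, .o, .o, .w, .z, .w2⟩,
  ⟨.w2, .o, .o, .o, .w, .w2, .w, .o, .z⟩,
  ⟨.w2, .w, .w2, .o, .z, .w, .w, .w, .w⟩,
  ⟨.w2, .w2, .z, .o, .w2, .z, .w, .w2, .o⟩,
  ⟨.w, .z, .w2, .w, .o, .w, .w2, .z, .w⟩,
  ⟨.w, .o, .z, .w, .w, .z, .w2, .o, .o⟩,
  ⟨.w, .w, .w, .w, .z, .o, .w2, .w, .w2⟩,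
  ⟨.w, .w2, .o, .w, .w2, .w2, .w2, .w2, .z⟩,
  ⟨.o, .o, .w, .z, .w, .o, .z, .w, .w⟩,
  ⟨.o, .w, .w2, .z, .z, .w, .z, .w2, .z⟩,
  ⟨.o, .w2, .o, .z, .w2, .w2, .z, .o, .w2⟩,
  ⟨.z, .z, .w2, .w2, .o, .w, .w, .z, .z⟩,
  ⟨.z, .o, .o, .w2, .w, .w2, .w, .w, .w2⟩,
  ⟨.z, .w, .z, .w2, .z, .z, .w, .w2, .o⟩,
  ⟨.z, .w2, .w, .w2, .w2, .o, .w, .o, .w⟩,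
  ⟨.w2, .z, .o, .o, .o, .w2, .w2, .z, .w2⟩,
  ⟨.w2, .o, .w2, .o, .w, .w, .w2, .w, .z⟩,
  ⟨.w2, .w, .w, .o, .z, .o, .w2, .w2, .w⟩,
  ⟨.w2, .w2, .z, .o, .w2, .z, .w2, .o, .o⟩,
  ⟨.w, .z, .w, .w, .o, .o, .o, .z, .w⟩,
  ⟨.w, .o, .z, .w, .w, .z, .o, .w, .o⟩,
  ⟨.w, .w, .o, .w, .z, .w2, .o, .w2, .w2⟩,
  ⟨.w, .w2, .w2, .w, .w2, .w, .o, .o, .z⟩,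
  ⟨.o, .o, .o, .z, .w, .w2, .z, .w2, .w⟩,
  ⟨.o, .w, .w, .z, .z, .o, .z, .o, .z⟩,
  ⟨.o, .w2, .w2, .z, .w2, .w, .z, .w, .w2⟩,
  ⟨.z, .z, .w, .w2, .o, .o, .w2, .z, .z⟩,
  ⟨.z, .o, .w2, .w2, .w, .w, .w2, .w2, .w2⟩,
  ⟨.z, .w, .z, .w2, .z, .z, .w2, .o, .o⟩,
  ⟨.z, .w2, .o, .w2, .w2, .w2, .w2, .w, .w⟩,
  ⟨.w2, .z, .w2, .o, .o, .w, .o, .z, .w2⟩,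
  ⟨.w2, .o, .w, .o, .w, .o, .o, .w2, .z⟩,
  ⟨.w2, .w, .o, .o, .z, .w2, .o, .o, .w⟩,
  ⟨.w2, .w2, .z, .o, .w2, .z, .o, .w, .o⟩,
  ⟨.w, .z, .o, .w, .o, .w2, .w, .z, .w⟩,
  ⟨.w, .o, .z, .w, .w, .z, .w, .w2, .o⟩,
  ⟨.w, .w, .w2, .w, .z, .w, .w, .o, .w2⟩,
  ⟨.w, .w2, .w, .w, .w2, .o, .w, .w, .z⟩]

/-- The involutions commuting with the first one. -/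
def planeCentF : List M3 := [
  ⟨.o, .z, .z, .z, .o, .z, .z, .o, .o⟩,
  ⟨.o, .z, .z, .z, .o, .z, .z, .w, .o⟩,
  ⟨.o, .z, .z, .z, .o, .z, .z, .w2, .o⟩,
  ⟨.o, .z, .z, .z, .o, .z, .o, .z, .o⟩,
  ⟨.o, .z, .z, .z, .o, .z, .o, .o, .o⟩,
  ⟨.o, .z, .z, .z, .o, .z, .o, .w, .o⟩,
  ⟨.o, .z, .z, .z, .o, .z, .o, .w2, .o⟩,
  ⟨.o, .z, .z, .z, .o, .z, .w, .z, .o⟩,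
  ⟨.o, .z, .z, .z, .o, .z, .w, .o, .o⟩,
  ⟨.o, .z, .z, .z, .o, .z, .w, .w, .o⟩,
  ⟨.o, .z, .z, .z, .o, .z, .w, .w2, .o⟩,
  ⟨.o, .z, .z, .z, .o, .z, .w2, .z, .o⟩,
  ⟨.o, .z, .z, .z, .o, .z, .w2, .o, .o⟩,
  ⟨.o, .z, .z, .z, .o, .z, .w2, .w, .o⟩,
  ⟨.o, .z, .z, .z, .o, .z, .w2, .w2, .o⟩,
  ⟨.o, .o, .z, .z, .o, .z, .z, .z, .o⟩,
  ⟨.o, .w, .z, .z, .o, .z, .z, .z, .o⟩,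
  ⟨.o, .w2, .z, .z, .o, .z, .z, .z, .o⟩,
  ⟨.o, .o, .z, .z, .o, .z, .z, .o, .o⟩,
  ⟨.o, .w, .z, .z, .o, .z, .z, .w, .o⟩,
  ⟨.o, .w2, .z, .z, .o, .z, .z, .w2, .o⟩,
  ⟨.o, .o, .z, .z, .o, .z, .z, .w, .o⟩,
  ⟨.o, .w, .z, .z, .o, .z, .z, .w2, .o⟩,
  ⟨.o, .w2, .z, .z, .o, .z, .z, .o, .o⟩,
  ⟨.o, .o, .z, .z, .o, .z, .z, .w2, .o⟩,
  ⟨.o, .w, .z, .z, .o, .z, .z, .o, .o⟩,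
  ⟨.o, .w2, .z, .z, .o, .z, .z, .w, .o⟩]

end Cfsg.Agent.SuzUnique
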