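/-
Configurations of involutions in `PSL(3,4)` (helper16).

* `pj` : the image of a matrix of determinant one, `pj_eq_iff`
* `plane_cases` : for involutions `f, g` with product of order four and further involutions `r1, r2, v` in
  the relevant centralisers, either `f g r1 r2` has order seven or `f r1 g r2 r1 r2` completes the
  configuration
-/
import Cfsg.Agent.Lib.SuzUnique.PlaneData
import Cfsg.Agent.EqLemmas

set_option autoImplicit false
set_option maxRecDepth 100000

namespace Cfsg.Agent.SuzUnique

open Cfsg.Agent.SU32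
open Matrix

/-- The projective group. -/
abbrev PL : Type := Matrix.ProjectiveSpecialLinearGroup (Fin 3) K4

/-- The element of the special linear group of a matrix. -/
noncomputable def slm (A : M3) : SpecialLinearGroup (Fin 3) K4 :=
  if h : A.mat.det = 1 then ⟨A.mat, h⟩ else 1

/-- The image of a matrix. -/
noncomputable def pj (A : M3) : PL := QuotientGroup.mk (slm A)

/-- The product, for evaluation. -/
def qmul (x y : M3) : M3 :=
  ⟨K4.add (K4.add (K4.mul x.a y.a) (K4.mul x.b y.d)) (K4.mul x.c y.g),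
    K4.add (K4.add (K4.mul x.a y.b) (K4.mul x.b y.e)) (K4.mul x.c y.h),
    K4.add (K4.add (K4.mul x.a y.c) (K4.mul x.b y.f)) (K4.mul x.c y.i),
    K4.add (K4.add (K4.mul x.d y.a) (K4.mul x.e y.d)) (K4.mul x.f y.g),
    K4.add (K4.add (K4.mul x.d y.b) (K4.mul x.e y.e)) (K4.mul x.f y.h),
    K4.add (K4.add (K4.mul x.d y.c) (K4.mul x.e y.f)) (K4.mul x.f y.i),
    K4.add (K4.add (K4.mul x.g y.a) (K4.mul x.h y.d)) (K4.mul x.i y.g),
    K4.add (K4.add (K4.mul x.g y.b) (K4.mul x.h y.e)) (K4.mul x.i y.h),
    K4.add (K4.add (K4.mul x.g y.c) (K4.mul x.h y.f)) (K4.mul x.i y.i)⟩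

theorem qmul_eq (x y : M3) : qmul x y = M3.mul x y := rfl

/-- Equality in the field. -/
def keq : K4 → K4 → Bool
  | .z, .z => true
  | .o, .o => true
  | .w, .w => true
  | .w2, .w2 => true
  | _, _ => false

theorem keq_iff {x y : K4} : keq x y = true ↔ x = y := by cases x <;> cases y <;> decide

/-- `B` is `r` times `A`. -/
def isMul (r : K4) (A B : M3) : Bool :=
  keq (K4.mul r A.a) B.a && (keq (K4.mul r A.b) B.b && (keq (K4.mul r A.c) B.c && (keq (K4.mul r A.d) B.d &&
    (keq (K4.mul r A.e) B.e && (keq (K4.mul r A.f) B.f && (keq (K4.mul r A.g) B.g &&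
      (keq (K4.mul r A.h) B.h && keq (K4.mul r A.i) B.i)))))))

/-- Equality up to scalars. -/
def eqS (A B : M3) : Bool := isMul .o A B || (isMul .w A B || isMul .w2 A B)

/-- Determinant one. -/
def detOne (A : M3) : Bool :=
  keq (K4.add (K4.add (K4.add (K4.add (K4.add (K4.mul (K4.mul A.a A.e) A.i) (K4.mul (K4.mul A.a A.f) A.h))
    (K4.mul (K4.mul A.b A.d) A.i)) (K4.mul (K4.mul A.b A.f) A.g))
    (K4.mul (K4.mul A.c A.d) A.h)) (K4.mul (K4.mul A.c A.e) A.g)) .o

theorem det_of_detOne {A : M3} (h : detOne A = true) : A.mat.det = 1 := by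
  unfold detOne at h
  rw [keq_iff] at h
  rw [det_fin]
  simp only [sub_eq_add_neg]
  exact h

theorem slm_val {A : M3} (h : A.mat.det = 1) :
    (slm A : Matrix (Fin 3) (Fin 3) K4) = A.mat := by
  have e : slm A = ⟨A.mat, h⟩ := dif_pos h
  rw [e]

theorem mat_qmul (x y : M3) : (qmul x y).mat = x.mat * y.mat := by rw [qmul_eq, M3.mat_mul]

theorem det_qmul {A B : M3} (hA : A.mat.det = 1) (hB : B.mat.det = 1) : (qmul A B).mat.det = 1 := by
  rw [mat_qmul, Matrix.det_mul, hA, hB, mul_one]

theorem pj_qmul {A B : M3} (hA : A.mat.det = 1) (hB : B.mat.det = 1) :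
    pj (qmul A B) = pj A * pj B := by
  rw [pj, pj, pj, ← QuotientGroup.mk_mul]
  congr 1
  apply Subtype.ext
  rw [Matrix.SpecialLinearGroup.coe_mul, slm_val hA, slm_val hB, slm_val (det_qmul hA hB), mat_qmul]

/-- Products of lists. -/
def qprod : List M3 → M3
  | [] => M3.unit
  | A :: l => qmul A (qprod l)

theorem det_qprod : ∀ {l : List M3}, (∀ A ∈ l, A.mat.det = 1) → (qprod l).mat.det = 1
  | [], _ => by rw [qprod, M3.mat_unit, Matrix.det_one]
  | A :: l, h => det_qmul (h A List.mem_cons_self) (det_qprod fun B hB => h B (List.mem_cons_of_mem _ hB))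

theorem pj_unit : pj M3.unit = 1 := by
  rw [pj, show slm M3.unit = 1 from Subtype.ext (by
    rw [slm_val (by rw [M3.mat_unit, Matrix.det_one]), M3.mat_unit]; rfl)]
  rfl

theorem pj_qprod : ∀ {l : List M3}, (∀ A ∈ l, A.mat.det = 1) → pj (qprod l) = (l.map pj).prod
  | [], _ => by rw [qprod, pj_unit]; rfl
  | A :: l, h => by
    have h' : ∀ B ∈ l, B.mat.det = 1 := fun B hB => h B (List.mem_cons_of_mem _ hB)
    rw [qprod, pj_qmul (h A List.mem_cons_self) (det_qprod h'), pj_qprod h', List.map_cons, List.prod_cons]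

theorem isMul_iff {r : K4} {A B : M3} : isMul r A B = true ↔ r • A.mat = B.mat := by
  constructor
  · intro h
    simp only [isMul, Bool.and_eq_true, keq_iff] at h
    obtain ⟨h1, h2, h3, h4, h5, h6, h7, h8, h9⟩ := h
    ext i j
    fin_cases i <;> fin_cases j <;> assumption
  · intro h
    have e := fun i j => congrFun (congrFun h i) j
    simp only [isMul, Bool.and_eq_true, keq_iff]
    exact ⟨e 0 0, e 0 1, e 0 2, e 1 0, e 1 1, e 1 2, e 2 0, e 2 1, e 2 2⟩

theorem cube_roots : ∀ r : K4, r ^ 3 = 1 ↔ r ≠ 0 := by decide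

theorem pj_eq_iff {A B : M3} (hA : A.mat.det = 1) (hB : B.mat.det = 1) :
    pj A = pj B ↔ eqS A B = true := by
  rw [pj, pj, QuotientGroup.eq, Matrix.SpecialLinearGroup.mem_center_iff]
  simp only [eqS, Bool.or_eq_true, isMul_iff]
  have hval : ∀ r : K4, (Matrix.scalar (Fin 3) r = ((slm A)⁻¹ * slm B : SpecialLinearGroup (Fin 3) K4).1 ↔
      r • A.mat = B.mat) := by
    intro r
    have h1 : Matrix.scalar (Fin 3) r = r • (1 : Matrix (Fin 3) (Fin 3) K4) := by
      rw [Matrix.smul_one_eq_diagonal]; rfl
    have h2 : ((slm A) * ((slm A)⁻¹ * slm B) : SpecialLinearGroup (Fin 3) K4).1 = B.mat := by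
      rw [mul_inv_cancel_left, slm_val hB]
    have h3 : (((slm A)⁻¹) * slm A : SpecialLinearGroup (Fin 3) K4).1 = 1 := by rw [inv_mul_cancel]; rfl
    rw [h1]
    constructor
    · intro h
      rw [← h2, Matrix.SpecialLinearGroup.coe_mul, slm_val hA, ← h, mul_smul_comm, mul_one]
    · intro h
      rw [Matrix.SpecialLinearGroup.coe_mul, slm_val hB, ← h, mul_smul_comm, ← slm_val hA,
        ← Matrix.SpecialLinearGroup.coe_mul, h3]
  constructor
  · rintro ⟨r, hr, h⟩
    have h' := (hval r).1 h
    rw [Fintype.card_fin, cube_roots] at hr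
    cases r
    · exact absurd rfl hr
    · exact Or.inl h'
    · exact Or.inr (Or.inl h')
    · exact Or.inr (Or.inr h')
  · rintro (h | h | h) <;> refine ⟨_, ?_, (hval _).2 h⟩ <;>
      rw [Fintype.card_fin, cube_roots] <;> decide

/-! ### The check -/

/-- Trivial up to scalars. -/
def isOne (A : M3) : Bool := eqS A M3.unit

/-- The fifth power of a matrix. -/
def pow5 (A : M3) : M3 := qmul (qmul (qmul (qmul A A) A) A) A

/-- The conditions on `b`. -/
def bOK (f g z b : M3) : Bool :=
  !isOne b && (isOne (qmul b b) && (isOne (pow5 (qmul z b)) && (isOne (qmul (qmul (qmul b f) (qmul b f)) (qmul b f)) &&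
    (isOne (qmul (qmul (qmul b g) (qmul b g)) (qmul b g)) && isOne (pow5 (qmul (qmul b f) g))))))

/-- The conditions on `c`. -/
def cOK (f g z b c : M3) : Bool :=
  isOne (qmul (qmul (qmul b c) (qmul b c)) (qmul b c)) &&
    (isOne (pow5 (qmul (qmul z b) (qmul c f))) && isOne (pow5 (qmul (qmul z b) (qmul c g))))

/-- The seventh power is trivial. -/
def seven (A : M3) : Bool := !isOne A && isOne (qmul (qmul (pow5 A) A) A)

/-- The check for one pair. -/
def pairOK (f g : M3) : Bool :=
  let z := qprod [f, g, f, g]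
  isOne z || (!isOne (qmul z z) ||
    (planeCentF.filter fun r1 => eqS (qprod [r1, z, r1]) (qmul z f)).all fun r1 =>
      (planeInvs.filter fun r2 => eqS (qprod [r2, z, r2]) (qmul z g) && eqS (qmul r2 g) (qmul g r2)).all
        fun r2 =>
          seven (qprod [f, g, r1, r2]) ||
            ((planeCentF.filter fun v => !eqS v z && eqS (qmul v g) (qmul g v)).all fun v =>
              bOK f g z (qprod [f, r1, g, r2, r1, r2]) &&
                (cOK f g z (qprod [f, r1, g, r2, r1, r2]) v ||
                  cOK f g z (qprod [f, r1, g, r2, r1, r2]) (qmul v z))))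

theorem planeInvs_length : planeInvs.length = 315 := by decide +kernel

theorem planeInvs_ok : (planeInvs.all fun A => detOne A && (!isOne A && isOne (qmul A A))) = true := by
  decide +kernel

theorem planeInvs_distinct : planeInvs.Pairwise (fun A B => eqS A B = false) := by decide +kernel

theorem planeF_mem : planeInvs.head? = some planeF := by decide +kernel

theorem planeCentF_ok :
    (planeInvs.all fun A => !eqS (qmul A planeF) (qmul planeF A) || planeCentF.contains A) = true := by
  decide +kernel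

theorem planePairs_ok : (planeInvs.all fun g => pairOK planeF g) = true := by decide +kernel

end Cfsg.Agent.SuzUnique
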