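/-
The configurations of involutions in an abstract group isomorphic to `PSL(3,4)` (helper16).

* `plane_cases` : the transfer of `planePairs_ok`
-/
import Cfsg.Agent.Lib.SuzUnique.Plane

set_option autoImplicit false
set_option maxRecDepth 100000

namespace Cfsg.Agent.SuzUnique

open Cfsg.Agent.SU32

theorem planeInvs_det {A : M3} (hA : A ∈ planeInvs) : A.mat.det = 1 := by
  have h := List.all_eq_true.mp planeInvs_ok A hA
  rw [Bool.and_eq_true] at h
  exact det_of_detOne h.1

theorem pj_isOne {A : M3} (hA : A.mat.det = 1) : pj A = 1 ↔ isOne A = true := by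
  rw [← pj_unit]
  exact pj_eq_iff hA (by rw [M3.mat_unit, Matrix.det_one])

theorem planeF_in : planeF ∈ planeInvs := by
  have h := planeF_mem
  cases hl : planeInvs with
  | nil => rw [hl] at h; simp at h
  | cons A l => rw [hl] at h; simp only [List.head?_cons, Option.some.injEq] at h; simp [h]

/-- The property of `pow5`. -/
theorem pj_pow5 {A : M3} (hA : A.mat.det = 1) : (pow5 A).mat.det = 1 ∧ pj (pow5 A) = pj A ^ 5 := by
  have h2 := det_qmul hA hA
  have h3 := det_qmul h2 hA
  have h4 := det_qmul h3 hA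
  refine ⟨det_qmul h4 hA, ?_⟩
  rw [pow5, pj_qmul h4 hA, pj_qmul h3 hA, pj_qmul h2 hA, pj_qmul hA hA]
  simp only [pow_succ, pow_zero, one_mul]

variable {L : Type*} [Group L]

/-- The conclusion on `b`. -/
def PlaneB (f g z b v : L) : Prop :=
  b * b = 1 ∧ b ≠ 1 ∧ (z * b) ^ 5 = 1 ∧ (b * f) ^ 3 = 1 ∧ (b * g) ^ 3 = 1 ∧ (b * f * g) ^ 5 = 1 ∧
    ∃ c : L, (c = v ∨ c = v * z) ∧ (b * c) ^ 3 = 1 ∧ (z * b * c * f) ^ 5 = 1 ∧ (z * b * c * g) ^ 5 = 1

theorem plane_cases [Finite L] (σ : L ≃* PL) (hcard : Nat.card {x : L // x * x = 1 ∧ x ≠ 1} = 315)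
    (hconj : ∀ x y : L, x * x = 1 → x ≠ 1 → y * y = 1 → y ≠ 1 → IsConj x y)
    {f g r1 r2 v : L} (hf : f * f = 1) (hf1 : f ≠ 1) (hg : g * g = 1) (hg1 : g ≠ 1) (hr1 : r1 * r1 = 1)
    (hr11 : r1 ≠ 1) (hr2 : r2 * r2 = 1) (hr21 : r2 ≠ 1) (hv : v * v = 1) (hv1 : v ≠ 1)
    (hz1 : f * g * f * g ≠ 1) (hz2 : (f * g * f * g) * (f * g * f * g) = 1)
    (h1f : r1 * f = f * r1) (h1z : r1 * (f * g * f * g) * r1 = f * g * f * g * f)
    (h2g : r2 * g = g * r2) (h2z : r2 * (f * g * f * g) * r2 = f * g * f * g * g)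
    (hvf : v * f = f * v) (hvg : v * g = g * v) (hvz : v ≠ f * g * f * g) :
    ((f * g * r1 * r2) ^ 7 = 1 ∧ f * g * r1 * r2 ≠ 1) ∨
      PlaneB f g (f * g * f * g) (f * r1 * g * r2 * r1 * r2) v := by
  classical
  -- every involution is on the list
  have onto : ∀ (τ : L ≃* PL) (x : L), x * x = 1 → x ≠ 1 → ∃ A ∈ planeInvs, pj A = τ x := by
    intro τ
    have hmem : ∀ i : Fin planeInvs.length, τ.symm (pj (planeInvs[i.1])) * τ.symm (pj (planeInvs[i.1])) = 1 ∧
        τ.symm (pj (planeInvs[i.1])) ≠ 1 := by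
      intro i
      have hA : planeInvs[i.1] ∈ planeInvs := List.getElem_mem i.2
      have hd := planeInvs_det hA
      have h := List.all_eq_true.mp planeInvs_ok _ hA
      simp only [Bool.and_eq_true, Bool.not_eq_true'] at h
      constructor
      · rw [← map_mul, ← pj_qmul hd hd, (pj_isOne (det_qmul hd hd)).2 h.2.2, map_one]
      · intro e
        rw [MulEquiv.map_eq_one_iff, pj_isOne hd, h.2.1] at e
        exact Bool.false_ne_true e
    let F : Fin planeInvs.length → {x : L // x * x = 1 ∧ x ≠ 1} := fun i => ⟨_, hmem i⟩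
    have hinj : Function.Injective F := by
      intro i j h
      have h' : pj (planeInvs[i.1]) = pj (planeInvs[j.1]) := τ.symm.injective (congrArg Subtype.val h)
      by_contra hne
      have key : ∀ a b : Fin planeInvs.length, a.1 < b.1 → pj (planeInvs[a.1]) ≠ pj (planeInvs[b.1]) := by
        intro a b hab e
        rw [pj_eq_iff (planeInvs_det (List.getElem_mem a.2)) (planeInvs_det (List.getElem_mem b.2)),
          List.pairwise_iff_getElem.1 planeInvs_distinct a.1 b.1 a.2 b.2 hab] at e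
        exact Bool.false_ne_true e
      rcases Nat.lt_or_gt_of_ne (fun e => hne (Fin.ext e)) with hl | hl
      · exact key i j hl h'
      · exact key j i hl h'.symm
    have hb : Function.Bijective F := (Nat.bijective_iff_injective_and_card F).2
      ⟨hinj, by rw [hcard, Nat.card_eq_fintype_card, Fintype.card_fin, planeInvs_length]⟩
    intro x hx hx1
    obtain ⟨i, hi⟩ := hb.2 ⟨x, hx, hx1⟩
    refine ⟨_, List.getElem_mem i.2, ?_⟩
    rw [← (show τ.symm (pj (planeInvs[i.1])) = x from congrArg Subtype.val hi), MulEquiv.apply_symm_apply]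
  -- move `f` to the first involution
  have hF := planeF_in
  have hFd := planeInvs_det hF
  have hFok := List.all_eq_true.mp planeInvs_ok _ hF
  simp only [Bool.and_eq_true, Bool.not_eq_true'] at hFok
  obtain ⟨l, hl⟩ := isConj_iff.1 (hconj f (σ.symm (pj planeF)) hf hf1
    (by rw [← map_mul, ← pj_qmul hFd hFd, (pj_isOne (det_qmul hFd hFd)).2 hFok.2.2, map_one])
    (fun e => by
      rw [MulEquiv.map_eq_one_iff, pj_isOne hFd, hFok.2.1] at e
      exact Bool.false_ne_true e))
  let τ : L ≃* PL := (MulAut.conj l).trans σ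
  have hτf : τ f = pj planeF := by
    show σ (l * f * l⁻¹) = _
    rw [hl, MulEquiv.apply_symm_apply]
  obtain ⟨G', hG', eG⟩ := onto τ g hg hg1
  obtain ⟨A1, hA1', e1⟩ := onto τ r1 hr1 hr11
  obtain ⟨A2, hA2', e2⟩ := onto τ r2 hr2 hr21
  obtain ⟨V, hV', eV⟩ := onto τ v hv hv1
  have dG := planeInvs_det hG'
  have d1 := planeInvs_det hA1'
  have d2 := planeInvs_det hA2'
  have dV := planeInvs_det hV'
  set Z := qprod [planeF, G', planeF, G'] with hZ
  have dall : ∀ {l : List M3}, (∀ A ∈ l, A = planeF ∨ A = G' ∨ A = A1 ∨ A = A2 ∨ A = V) →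
      ∀ A ∈ l, A.mat.det = 1 := by
    intro l h A hA
    rcases h A hA with rfl | rfl | rfl | rfl | rfl <;> assumption
  have dZ : Z.mat.det = 1 := det_qprod (dall (by simp))
  have eZ : pj Z = τ (f * g * f * g) := by
    rw [hZ, pj_qprod (dall (by simp))]
    simp [hτf, eG, mul_assoc]
  have hc := fun A (hA : A ∈ planeInvs) => List.all_eq_true.mp planeCentF_ok A hA
  have toCent : ∀ {A : M3}, A ∈ planeInvs → ∀ {x : L}, pj A = τ x → x * f = f * x → A ∈ planeCentF := by
    intro A hA x hx hxf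
    have dA := planeInvs_det hA
    have he : eqS (qmul A planeF) (qmul planeF A) = true := by
      rw [← pj_eq_iff (det_qmul dA hFd) (det_qmul hFd dA), pj_qmul dA hFd, pj_qmul hFd dA, hx, ← hτf,
        ← map_mul, ← map_mul, hxf]
    have h := hc A hA
    rw [he] at h
    simpa using h
  have key := List.all_eq_true.mp planePairs_ok G' hG'
  simp only [pairOK, Bool.or_eq_true, Bool.not_eq_true', List.all_eq_true, List.mem_filter,
    Bool.and_eq_true] at key
  rw [← hZ] at key
  have k1 : isOne Z = false := by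
    rw [← Bool.not_eq_true, ← pj_isOne dZ, eZ]
    exact fun e => hz1 ((MulEquiv.map_eq_one_iff τ).1 e)
  have k2 : isOne (qmul Z Z) = true := by
    rw [← pj_isOne (det_qmul dZ dZ), pj_qmul dZ dZ, eZ, ← map_mul, hz2, map_one]
  rcases key with h | h | h
  · rw [k1] at h; exact absurd h Bool.false_ne_true
  · rw [k2] at h; exact absurd h.symm Bool.false_ne_true
  have m1 : eqS (qprod [A1, Z, A1]) (qmul Z planeF) = true := by
    rw [← pj_eq_iff (det_qprod fun A hA => by simp at hA; rcases hA with rfl | rfl | rfl <;> assumption)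
      (det_qmul dZ hFd), pj_qmul dZ hFd,
      pj_qprod fun A hA => by simp at hA; rcases hA with rfl | rfl | rfl <;> assumption]
    simp only [List.map_cons, List.map_nil, List.prod_cons, List.prod_nil, mul_one, e1, eZ, ← hτf,
      ← map_mul, ← mul_assoc]
    rw [← h1z]; simp only [mul_assoc]
  have m2 : eqS (qprod [A2, Z, A2]) (qmul Z G') = true ∧ eqS (qmul A2 G') (qmul G' A2) = true := by
    constructor
    · rw [← pj_eq_iff (det_qprod fun A hA => by simp at hA; rcases hA with rfl | rfl | rfl <;> assumption)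
        (det_qmul dZ dG), pj_qmul dZ dG,
        pj_qprod fun A hA => by simp at hA; rcases hA with rfl | rfl | rfl <;> assumption]
      simp only [List.map_cons, List.map_nil, List.prod_cons, List.prod_nil, mul_one, e2, eZ, eG,
        ← map_mul, ← mul_assoc]
      rw [← h2z]; simp only [mul_assoc]
    · rw [← pj_eq_iff (det_qmul d2 dG) (det_qmul dG d2), pj_qmul d2 dG, pj_qmul dG d2, e2, eG,
        ← map_mul, ← map_mul, h2g]
  rcases h A1 ⟨toCent hA1' e1 h1f, m1⟩ A2 ⟨hA2', m2⟩ with h7 | hB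
  · left
    simp only [seven, Bool.and_eq_true, Bool.not_eq_true'] at h7
    have dS : (qprod [planeF, G', A1, A2]).mat.det = 1 := det_qprod (dall (by simp))
    obtain ⟨d5, e5⟩ := pj_pow5 dS
    have eS : pj (qprod [planeF, G', A1, A2]) = τ (f * g * r1 * r2) := by
      rw [pj_qprod (dall (by simp))]
      simp [hτf, eG, e1, e2, mul_assoc]
    constructor
    · have h' := (pj_isOne (det_qmul (det_qmul d5 dS) dS)).2 h7.2
      rw [pj_qmul (det_qmul d5 dS) dS, pj_qmul d5 dS, e5, eS, ← pow_succ, ← pow_succ, ← map_pow] at h'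
      exact (MulEquiv.map_eq_one_iff τ).1 h'
    · intro e
      rw [e, map_one, pj_isOne dS, h7.1] at eS
      exact Bool.false_ne_true eS
  · right
    have hVm : V ∈ planeCentF ∧ eqS V Z = false ∧ eqS (qmul V G') (qmul G' V) = true := by
      refine ⟨toCent hV' eV hvf, ?_, ?_⟩
      · rw [← Bool.not_eq_true, ← pj_eq_iff dV dZ, eV, eZ]
        exact fun e => hvz (τ.injective e)
      · rw [← pj_eq_iff (det_qmul dV dG) (det_qmul dG dV), pj_qmul dV dG, pj_qmul dG dV, eV, eG,
          ← map_mul, ← map_mul, hvg]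
    obtain ⟨hb, hcc⟩ := hB V hVm
    set B := qprod [planeF, A1, G', A2, A1, A2]
    have dB : B.mat.det = 1 := det_qprod (dall (by simp))
    set b := f * r1 * g * r2 * r1 * r2
    have eB : pj B = τ b := by
      rw [pj_qprod (dall (by simp))]
      simp [b, hτf, eG, e1, e2, mul_assoc]
    simp only [bOK, Bool.and_eq_true, Bool.not_eq_true'] at hb
    obtain ⟨hb1, hb2, hb3, hb4, hb5, hb6⟩ := hb
    have one : ∀ {A : M3} {x : L}, A.mat.det = 1 → isOne A = true → pj A = τ x → x = 1 := by
      intro A x dA hA hx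
      rw [(pj_isOne dA).2 hA] at hx
      exact (MulEquiv.map_eq_one_iff τ).1 hx.symm
    have cube : ∀ {A : M3} {x : L}, A.mat.det = 1 → pj A = τ x →
        isOne (qmul (qmul A A) A) = true → x ^ 3 = 1 := by
      intro A x dA hx hA
      refine one (det_qmul (det_qmul dA dA) dA) hA ?_
      rw [pj_qmul (det_qmul dA dA) dA, pj_qmul dA dA, hx, map_pow]
      simp only [pow_succ, pow_zero, one_mul]
    have five : ∀ {A : M3} {x : L}, A.mat.det = 1 → pj A = τ x →
        isOne (pow5 A) = true → x ^ 5 = 1 := by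
      intro A x dA hx hA
      refine one (pj_pow5 dA).1 hA ?_
      rw [(pj_pow5 dA).2, hx, map_pow]
    refine ⟨one (det_qmul dB dB) hb2 (by rw [pj_qmul dB dB, eB, ← map_mul]), fun e => ?_,
      five (det_qmul dZ dB) (by rw [pj_qmul dZ dB, eZ, eB, ← map_mul]) hb3,
      cube (det_qmul dB hFd) (by rw [pj_qmul dB hFd, eB, ← hτf, ← map_mul]) hb4,
      cube (det_qmul dB dG) (by rw [pj_qmul dB dG, eB, eG, ← map_mul]) hb5,
      five (det_qmul (det_qmul dB hFd) dG)
        (by rw [pj_qmul (det_qmul dB hFd) dG, pj_qmul dB hFd, eB, eG, ← hτf, ← map_mul, ← map_mul]) hb6, ?_⟩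
    · rw [e, map_one, pj_isOne dB, hb1] at eB
      exact Bool.false_ne_true eB
    · have fin : ∀ {C : M3} {c : L}, C.mat.det = 1 → pj C = τ c → cOK planeF G' Z B C = true →
          (b * c) ^ 3 = 1 ∧ (f * g * f * g * b * c * f) ^ 5 = 1 ∧ (f * g * f * g * b * c * g) ^ 5 = 1 := by
        intro C c dC hC hok
        simp only [cOK, Bool.and_eq_true] at hok
        refine ⟨cube (det_qmul dB dC) (by rw [pj_qmul dB dC, eB, hC, ← map_mul]) hok.1, ?_, ?_⟩
        · refine five (det_qmul (det_qmul dZ dB) (det_qmul dC hFd)) ?_ hok.2.1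
          rw [pj_qmul (det_qmul dZ dB) (det_qmul dC hFd), pj_qmul dZ dB, pj_qmul dC hFd, eZ, eB, hC,
            ← hτf, ← map_mul, ← map_mul, ← map_mul, mul_assoc (f * g * f * g * b) c f]
        · refine five (det_qmul (det_qmul dZ dB) (det_qmul dC dG)) ?_ hok.2.2
          rw [pj_qmul (det_qmul dZ dB) (det_qmul dC dG), pj_qmul dZ dB, pj_qmul dC dG, eZ, eB, hC,
            eG, ← map_mul, ← map_mul, ← map_mul, mul_assoc (f * g * f * g * b) c g]
      rcases hcc with h' | h'
      · exact ⟨v, Or.inl rfl, fin dV eV h'⟩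
      · exact ⟨v * (f * g * f * g), Or.inr rfl,
          fin (det_qmul dV dZ) (by rw [pj_qmul dV dZ, eV, eZ, ← map_mul]) h'⟩

end Cfsg.Agent.SuzUnique
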