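/-
The last steps for the uniqueness of the Suzuki group (helper16).

* `plane_iso` : `L` is `PSL(3,4)`; its involutions form one class of 315
* `no_sixty_seven` : an element of order seven of `L` is not centralised by a group of order 60
* `iso_of_gens` : seven generators with the relations give the isomorphism
-/
import Cfsg.Agent.Lib.SuzUnique.PlaneUse
import Cfsg.Agent.Lib.SuzUnique.Five
import Cfsg.Agent.Lib.SuzType.Local
import Cfsg.Agent.Lib.SuzType.Order
import Cfsg.Agent.S1694

set_option autoImplicit false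
open scoped commutatorElement

namespace Cfsg.Agent.SuzUnique

open Cfsg.Agent.SuzType Cfsg.Agent.Orth Cfsg.Agent.LargeExtraspecial Cfsg.Agent.LargeExtraspecial.Cfg
open Fr (K1 K2)

universe u

variable {G : Type u} [Group G] [Finite G] (W : Fu G)

set_option synthInstance.maxSize 1024

theorem quot_iso : Nonempty (W.Y0 ⧸ W.EY ≃* PL) := by
  haveI := W.simple
  haveI : Fact (Nat.Prime 2) := ⟨Nat.prime_two⟩
  set π := QuotientGroup.mk' W.EY with hπ
  set zb := π ⟨W.F.z, W.S0_le_Y0 W.z_mem_S0⟩ with hzb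
  have hz1 : zb ≠ 1 := fun h =>
    W.not_mem_E ⟨1, 0, W.F.pz_z.symm⟩ W.F.z_ne ((W.mk_eq_one).1 h)
  have hz2 : orderOf zb = 2 := orderOf_eq_prime (by
    rw [sq, hzb, ← map_mul, show (⟨W.F.z, W.S0_le_Y0 W.z_mem_S0⟩ : W.Y0) * ⟨W.F.z, W.S0_le_Y0 W.z_mem_S0⟩ = 1
      from Subtype.ext W.F.z_sq, map_one]) hz1
  have hnc : ∃ a b : W.Y0 ⧸ W.EY, a * b ≠ b * a := by
    refine ⟨π ⟨W.n0, W.n0_mem⟩, zb, fun h => ?_⟩
    have heq : zb = π (⟨W.n0, W.n0_mem⟩ * ⟨W.F.z, W.S0_le_Y0 W.z_mem_S0⟩ * ⟨W.n0, W.n0_mem⟩⁻¹) := by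
      rw [map_mul, map_mul, map_inv, ← hzb, h, mul_inv_cancel_right]
    rw [hzb, W.mk_eq] at heq
    simp only [Subgroup.coe_mul, InvMemClass.coe_inv] at heq
    rw [W.n0_cyc.2.1] at heq
    refine W.F.v_ne_z (inv_mul_eq_one.mp (W.E_inter_V heq ?_)).symm
    exact mul_mem (inv_mem ⟨1, 0, W.F.pz_z.symm⟩) ⟨0, 1, W.F.pz_v.symm⟩
  have hC := W.card_cent_z
  rcases CITClass.classify hnc W.cit with ⟨F, _, _, hF, ⟨e⟩⟩ | ⟨F, _, _, hF, ⟨e⟩⟩ | ⟨F, _, _, m, hm, hF, ⟨e⟩⟩
  · exfalso
    have hC' : Nat.card (Subgroup.centralizer ({e zb} : Set (PSL2.PSL2 F))) = 64 := by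
      rw [← hC]
      refine Nat.card_congr (Equiv.subtypeEquiv e.toEquiv fun a => ?_).symm
      simp only [Subgroup.mem_centralizer_singleton_iff, MulEquiv.toEquiv_eq_coe, MulEquiv.coe_toEquiv,
        hzb, hπ, ← map_mul, e.injective.eq_iff]
    have he2 : orderOf (e zb) = 2 := by rw [MulEquiv.orderOf_eq, hz2]
    have two : (∃ n : ℕ, Fintype.card F = 2 ^ n) → False := by
      rintro ⟨n, hn⟩
      haveI : CharP F 2 := charP_of_card_eq_prime_pow (f := n) hn
      obtain ⟨t, ht⟩ := W.F.exists_Is G0 0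
      have htS := W.mem_S0_iff.2 ⟨G0, 0, zp_gens.2.2.2.2, ht⟩
      set tb := π ⟨t, W.S0_le_Y0 htS⟩ with htb
      have ht2 : tb * tb = zb := by
        rw [htb, hzb, ← map_mul]
        congr 1
        refine Subtype.ext ?_
        show t * t = W.F.z
        rw [Fr.Is.sq W.F ht, qU_G0, bU_zero_right, add_zero, qU_zero, add_zero, W.F.pz_z]
      have ht4 : orderOf tb = 4 := by
        refine orderOf_eq_prime_pow (p := 2) (n := 1) ?_ ?_
        · rw [pow_one, sq, ht2]; exact hz1
        · rw [show (2 : ℕ) ^ (1 + 1) = 2 * 2 from rfl, pow_mul, sq tb, ht2, sq, ← sq, ← hz2,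
            pow_orderOf_eq_one]
      have h4 : orderOf (e tb) = 4 := by rw [MulEquiv.orderOf_eq, ht4]
      obtain ⟨y, hy, -, hord⟩ := PSL2.centralizer_torus (x := e tb) 2 (by rw [h4]; norm_num) (by rw [h4]; norm_num)
      have hdvd : 4 ∣ orderOf y := h4 ▸ orderOf_dvd_of_mem_zpowers hy
      have hn1 : n ≠ 0 := by
        rintro rfl
        rw [pow_zero] at hn
        exact absurd hn (Nat.ne_of_gt Fintype.one_lt_card)
      have he : Even (2 ^ n) := Nat.even_pow.2 ⟨even_two, hn1⟩
      have hg : Nat.gcd 2 (Nat.card F - 1) = 1 := by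
        rw [Nat.card_eq_fintype_card, hn]
        refine (Nat.prime_two.coprime_iff_not_dvd).2 ?_
        have := Nat.one_le_two_pow (n := n)
        rw [Nat.even_iff] at he
        omega
      have := Nat.one_le_two_pow (n := n)
      rw [Nat.even_iff] at he
      rcases hord with h | h <;>
        · rw [hg, Nat.div_one, Nat.card_eq_fintype_card, hn] at h
          rw [h] at hdvd
          omega
    rcases hF with h9 | h | ⟨hp, k, hk⟩
    · have hodd : Odd (Nat.card F) := by rw [Nat.card_eq_fintype_card, h9]; decide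
      have h := (PSL2.card_centralizer_involution hodd he2).1 (by rw [Nat.card_eq_fintype_card, h9])
      rw [hC', Nat.card_eq_fintype_card, h9] at h
      omega
    · exact two h
    · rcases eq_or_ne (Fintype.card F) 2 with h2 | h2
      · exact two ⟨1, by rw [h2, pow_one]⟩
      · have hodd : Odd (Nat.card F) := by
          rw [Nat.card_eq_fintype_card]; exact hp.odd_of_ne_two h2
        have h4 : Nat.card F % 4 = 1 ∨ Nat.card F % 4 = 3 := by
          rw [Nat.odd_iff] at hodd; omega
        have hc := PSL2.card_centralizer_involution hodd he2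
        rw [hC'] at hc
        rcases h4 with h4 | h4
        · have h65 := hc.1 h4
          rw [Nat.card_eq_fintype_card] at h65
          rw [show Fintype.card F = 65 by omega] at hp
          norm_num at hp
        · have h63 := hc.2 h4
          rw [Nat.card_eq_fintype_card] at h63
          rw [show Fintype.card F = 63 by omega] at hp
          norm_num at hp
  · exact ⟨e.trans (Cfsg.Agent.Linear.pslMapEquiv (FiniteField.ringEquivOfCardEq (hF.trans (show Fintype.card SU32.K4 = 4 from rfl).symm)))⟩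
  · exfalso
    refine MaxOrders.three_not_dvd hm hF ?_
    rw [← Nat.card_congr (e.trans (Suzuki.lieEquiv hm hF).symm).toEquiv]
    exact W.three_dvd

/-- `L` is `PSL(3,4)` and its involutions form one class of 315. -/
theorem plane_iso : Nonempty (W.L ≃* PL) ∧ Nat.card {x : W.L // x * x = 1 ∧ x ≠ 1} = 315 ∧
    ∀ x y : W.L, x * x = 1 → x ≠ 1 → y * y = 1 → y ≠ 1 → IsConj x y := by
  obtain ⟨φ⟩ := W.exists_equiv_L
  obtain ⟨ψ⟩ := quot_iso W
  have hzt : ∀ x : W.L, x * x = 1 → x ≠ 1 → W.Zt (x : G) := fun x h2 h1 =>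
    W.L_inv x.2 (congrArg Subtype.val h2) fun e => h1 (Subtype.ext e)
  refine ⟨⟨φ.trans ψ⟩, ?_, ?_⟩
  · rw [← W.card_zt]
    exact Nat.card_congr
      { toFun := fun x => ⟨(x.1 : G), hzt x.1 x.2.1 x.2.2⟩
        invFun := fun m => ⟨⟨m.1, W.zt_mem_L m.2⟩, Subtype.ext (Fu.Zt.sq W m.2),
          fun e => Fu.Zt.ne W m.2 (congrArg Subtype.val e)⟩
        left_inv := fun x => rfl
        right_inv := fun m => rfl }
  · have key : ∀ x : W.L, x * x = 1 → x ≠ 1 →
        IsConj (⟨W.F.z, W.zt_mem_L W.zt_z⟩ : W.L) x := by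
      intro x h2 h1
      obtain ⟨k, hk, hkx⟩ := W.zt_conj (hzt x h2 h1)
      obtain ⟨e, he, l, hl, rfl⟩ := W.decomp_Y0 hk
      refine isConj_iff.2 ⟨⟨l, hl⟩, Subtype.ext ?_⟩
      show l * W.F.z * l⁻¹ = x
      have hc : Commute (l * W.F.z * l⁻¹) e :=
        W.Y0_E (W.L_le (mul_mem (mul_mem hl (W.zt_mem_L W.zt_z)) (inv_mem hl))) he
      rw [← hkx]
      calc l * W.F.z * l⁻¹ = e * (l * W.F.z * l⁻¹) * e⁻¹ := by rw [← hc.eq, mul_inv_cancel_right]
        _ = _ := by group
    exact fun x y hx hx1 hy hy1 => (key x hx hx1).symm.trans (key y hy hy1)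

/-- No group of order 60 centralises an element of order seven of `L`. -/
theorem no_sixty_seven {s : G} (hs : s ∈ W.L) (h7 : s ^ 7 = 1) (h1 : s ≠ 1) (H : Subgroup G)
    (hH : Nat.card H = 60) : ¬ ∀ x ∈ H, x * s = s * x := by
  intro hc
  haveI : Fact (Nat.Prime 7) := ⟨by norm_num⟩
  have ho : orderOf s = 7 := orderOf_eq_prime h7 h1
  let D : W.Sub := ⟨7, Or.inr rfl, Subgroup.zpowers s, Subgroup.zpowers_le.2 hs,
    by rw [Nat.card_zpowers, ho]⟩
  have hle : H ≤ Subgroup.centralizer (D.T : Set G) := fun x hx => D.mem_cent.2 fun t ht => by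
    obtain ⟨k, rfl⟩ := Subgroup.mem_zpowers_iff.1 ht
    exact Commute.zpow_right (hc x hx) k
  have hd := Subgroup.card_dvd_of_le hle
  rw [hH] at hd
  have hp : D.p = 7 := rfl
  have hT : Nat.card D.T = 7 := D.card
  rcases D.card_Y with h | h <;> rw [hp] at h
  · rw [h] at hd
    exact absurd hd (by decide)
  have hN := D.card_normalizer_T
  rw [h, hp] at hN
  have hG : Nat.card G = 448345497600 := W.card_G
  obtain ⟨S, hS⟩ := (IsPGroup.of_card (p := 7) (n := 1) (by rw [pow_one]; exact D.card)).exists_le_sylow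
  have hScard : Nat.card (S : Subgroup G) = 7 := by
    obtain ⟨n, hn⟩ := IsPGroup.iff_card.1 S.2
    have hdv : 7 ^ n ∣ 448345497600 := hG ▸ hn ▸ Subgroup.card_subgroup_dvd_card _
    have h7d : 7 ∣ Nat.card (S : Subgroup G) := by
      have h' := Subgroup.card_dvd_of_le hS
      rwa [hT] at h'
    rw [hn] at h7d ⊢
    match n, hdv, h7d with
    | 0, _, h' => norm_num at h'
    | 1, _, _ => rfl
    | n + 2, h', _ => exact absurd (dvd_trans (pow_dvd_pow 7 (by omega : 2 ≤ n + 2)) h') (by norm_num)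
  have hST : D.T = (S : Subgroup G) :=
    Subgroup.eq_of_le_of_card_ge hS (by rw [hScard]; exact hT.ge)
  have hn7 : Nat.card (Sylow 7 G) * 2520 = 448345497600 := by
    rw [Sylow.card_eq_index_normalizer S, ← hG,
      show 2520 = Nat.card (Subgroup.normalizer ((S : Subgroup G) : Set G)) by rw [← hST, hN]]
    exact Subgroup.index_mul_card _
  have hm := card_sylow_modEq_one 7 G
  rw [show Nat.card (Sylow 7 G) = 177914880 by omega] at hm
  exact absurd hm (by decide)

omit [Finite G] in
/-- The relations on seven elements give the isomorphism. -/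
theorem iso_of_gens [Finite G] (hG : Nat.card G = 448345497600) {a b c d e f g : G} (ha1 : a ≠ 1)
    (ha : a * a = 1) (hb : b * b = 1) (hc : c * c = 1) (hd : d * d = 1) (he : e * e = 1)
    (hf : f * f = 1) (hg : g * g = 1) (hac : a * c = c * a) (had : a * d = d * a) (hae : a * e = e * a)
    (haf : a * f = f * a) (hag : a * g = g * a) (hbd : b * d = d * b) (hbe : b * e = e * b)
    (hce : c * e = e * c) (hcf : c * f = f * c) (hcg : c * g = g * c) (hdf : d * f = f * d)
    (hdg : d * g = g * d) (hef : e * f = f * e) (heg : e * g = g * e) (hab : (a * b) ^ 5 = 1)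
    (hbc : (b * c) ^ 3 = 1) (hde : (d * e) ^ 3 = 1) (hbf : (b * f) ^ 3 = 1) (hbg : (b * g) ^ 3 = 1)
    (hcd : (c * d) ^ 4 = a) (hfg : (f * g) ^ 2 = a) (h5 : (a * b * c * f) ^ 5 = 1)
    (h5' : (b * f * g) ^ 5 = 1) (hlast : ((b * c * d * c * d) ^ 5 * e) ^ 3 = 1) :
    Cfsg.Spor.IsoSuz G := by
  let φ : Cfsg.Spor.Suz.Gen → G := fun x => match x with
    | .a => a | .b => b | .c => c | .d => d | .e => e | .f => f | .g => g
  have hcd8 : (c * d) ^ 8 = 1 := by rw [show 8 = 4 * 2 from rfl, pow_mul, hcd, sq, ha]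
  have hfg4 : (f * g) ^ 4 = 1 := by rw [show 4 = 2 * 2 from rfl, pow_mul, hfg, sq, ha]
  have e1 : ∀ u : G, u * u = 1 → (u * u) ^ 1 = 1 := fun u hu => by rw [pow_one, hu]
  have hrel : ∀ r ∈ Cfsg.Spor.coxRelators Cfsg.Spor.Suz.edges ∪ {r | r ∈ Cfsg.Spor.Suz.extra},
      FreeGroup.lift φ r = 1 := by
    refine cox_lift _ _ φ (fun x y => ?_) fun r hr => ?_
    · cases x <;> cases y
      · exact e1 a ha
      · exact hab
      · exact mul_inv_one ha hc hac
      · exact mul_inv_one ha hd had
      · exact mul_inv_one ha he hae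
      · exact mul_inv_one ha hf haf
      · exact mul_inv_one ha hg hag
      · exact pow_swap 5 hab
      · exact e1 b hb
      · exact hbc
      · exact mul_inv_one hb hd hbd
      · exact mul_inv_one hb he hbe
      · exact hbf
      · exact hbg
      · exact mul_inv_one hc ha hac.symm
      · exact pow_swap 3 hbc
      · exact e1 c hc
      · exact hcd8
      · exact mul_inv_one hc he hce
      · exact mul_inv_one hc hf hcf
      · exact mul_inv_one hc hg hcg
      · exact mul_inv_one hd ha had.symm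
      · exact mul_inv_one hd hb hbd.symm
      · exact pow_swap 8 hcd8
      · exact e1 d hd
      · exact hde
      · exact mul_inv_one hd hf hdf
      · exact mul_inv_one hd hg hdg
      · exact mul_inv_one he ha hae.symm
      · exact mul_inv_one he hb hbe.symm
      · exact mul_inv_one he hc hce.symm
      · exact pow_swap 3 hde
      · exact e1 e he
      · exact mul_inv_one he hf hef
      · exact mul_inv_one he hg heg
      · exact mul_inv_one hf ha haf.symm
      · exact pow_swap 3 hbf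
      · exact mul_inv_one hf hc hcf.symm
      · exact mul_inv_one hf hd hdf.symm
      · exact mul_inv_one hf he hef.symm
      · exact e1 f hf
      · exact hfg4
      · exact mul_inv_one hg ha hag.symm
      · exact pow_swap 3 hbg
      · exact mul_inv_one hg hc hcg.symm
      · exact mul_inv_one hg hd hdg.symm
      · exact mul_inv_one hg he heg.symm
      · exact pow_swap 4 hfg4
      · exact e1 g hg
    · simp only [Cfsg.Spor.Suz.extra, List.mem_cons, List.not_mem_nil, or_false] at hr
      rcases hr with rfl | rfl | rfl | rfl | rfl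
      · simp [φ, hcd]
      · simp [φ, hfg]
      · simpa [φ] using h5
      · simpa [φ] using h5'
      · simpa [φ] using hlast
  let π : Cfsg.Spor.Suz →* G := PresentedGroup.toGroup hrel
  obtain ⟨hsimp, hcard⟩ := Cfsg.Agent.S1694.result
  haveI : IsSimpleGroup Cfsg.Spor.Suz := hsimp
  haveI : Finite Cfsg.Spor.Suz := Nat.finite_of_card_ne_zero (by rw [hcard]; norm_num)
  have hinj : Function.Injective π := by
    rw [← MonoidHom.ker_eq_bot_iff]
    refine ((inferInstance : π.ker.Normal).eq_bot_or_eq_top).resolve_right fun h => ha1 ?_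
    have hm : PresentedGroup.of Cfsg.Spor.Suz.Gen.a ∈ π.ker := h ▸ Subgroup.mem_top _
    have he' : π (PresentedGroup.of Cfsg.Spor.Suz.Gen.a) = a := PresentedGroup.toGroup.of _
    rw [← he']
    exact hm
  exact ⟨(MulEquiv.ofBijective π ((Nat.bijective_iff_injective_and_card π).2
    ⟨hinj, hcard.trans hG.symm⟩)).symm⟩

end Cfsg.Agent.SuzUnique
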