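/-
The complement is the only one through an element of order five, and reflections (helper16).

* `avg_cob` : a cocycle trivial on a subgroup of odd index is a coboundary
* `Cpl` : a complement attached to a `Base`
* `Cpl.uniq` : two complements with a common element of order five are equal
* `Cpl.exists_refl` : an involution `r` commuting with the complement and `f`, with `r z r = z f`
-/
import Cfsg.Agent.Lib.SuzUnique.Compl
import Cfsg.Agent.Lib.SuzType.Lines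

set_option autoImplicit false
open scoped commutatorElement

namespace Cfsg.Agent.SuzUnique

open Cfsg.Agent.SuzType Cfsg.Agent.Orth Cfsg.Agent.LargeExtraspecial Cfsg.Agent.LargeExtraspecial.Cfg
open Fr (K1 K2)

/-- A cocycle vanishing on a subgroup of odd index is a coboundary. -/
theorem avg_cob {M : Type*} [Group M] [Finite M] (E : Subgroup M) (hi : Odd E.index)
    (φ : M → U4 → U4) (h0 : ∀ x, φ x 0 = 0) (hadd : ∀ x a b, φ x (a + b) = φ x a + φ x b) (δ : M → U4)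
    (hmul : ∀ x y, δ (x * y) = δ x + φ x (δ y)) (hE : ∀ h ∈ E, δ h = 0) :
    ∃ m, ∀ x, δ x = m + φ x m := by
  classical
  have : Fintype (M ⧸ E) := Fintype.ofFinite _
  have hcos : ∀ a b : M, (a : M ⧸ E) = (b : M ⧸ E) → δ a = δ b := by
    intro a b hab
    have h := hmul a (a⁻¹ * b)
    rw [mul_inv_cancel_left, hE _ (QuotientGroup.eq.1 hab), h0, add_zero] at h
    exact h.symm
  refine ⟨∑ q : M ⧸ E, δ q.out, fun x => ?_⟩
  let Φ : U4 →+ U4 := AddMonoidHom.mk' (φ x) (hadd x)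
  have h1 : ∑ q : M ⧸ E, δ q.out = ∑ q : M ⧸ E, δ (x * q.out) := by
    symm
    refine Fintype.sum_equiv (MulAction.toPerm x) _ _ fun q => hcos _ _ ?_
    show ((x * q.out : M) : M ⧸ E) = (((x • q).out : M) : M ⧸ E)
    rw [QuotientGroup.out_eq']
    conv_rhs => rw [← QuotientGroup.out_eq' q]
    rfl
  have h2 : ∑ q : M ⧸ E, δ (x * q.out) = δ x + φ x (∑ q : M ⧸ E, δ q.out) := by
    rw [Finset.sum_congr rfl fun q _ => hmul x q.out, Finset.sum_add_distrib, Finset.sum_const,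
      Finset.card_univ, ← Nat.card_eq_fintype_card, show φ x (∑ q : M ⧸ E, δ q.out) =
        Φ (∑ q : M ⧸ E, δ q.out) from rfl, map_sum]
    congr 1
    obtain ⟨k, hk⟩ : Odd (Nat.card (M ⧸ E)) := hi
    rw [hk, add_nsmul, one_nsmul, mul_nsmul, two_nsmul, ZModModule.add_self, smul_zero, zero_add]
  calc δ x = δ x + (φ x (∑ q : M ⧸ E, δ q.out) + φ x (∑ q : M ⧸ E, δ q.out)) := by
        rw [ZModModule.add_self, add_zero]
    _ = (δ x + φ x (∑ q : M ⧸ E, δ q.out)) + φ x (∑ q : M ⧸ E, δ q.out) := by rw [add_assoc]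
    _ = _ := by rw [← h2, ← h1]

variable {G : Type*} [Group G] [Finite G] {W : Fu G}

omit [Finite G] in
theorem card_fourSub {u e : G} (hu : u * u = 1) (he : e * e = 1) (hc : u * e = e * u) (h1 : u ≠ 1)
    (h2 : e ≠ 1) (h3 : u * e ≠ 1) : Nat.card (fourSub u e hu he hc) = 4 := by
  let f : ZMod 2 × ZMod 2 → fourSub u e hu he hc := fun p => ⟨pw u p.1 * pw e p.2, p.1, p.2, rfl⟩
  have hf : Function.Bijective f := by
    refine ⟨?_, fun ⟨x, i, j, h⟩ => ⟨(i, j), Subtype.ext h.symm⟩⟩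
    rintro ⟨i, j⟩ ⟨k, l⟩ h
    have h' : pw u i * pw e j = pw u k * pw e l := congrArg Subtype.val h
    have h3' : u ≠ e := fun h => h3 (by rw [← h, hu])
    rcases z2 i with rfl | rfl <;> rcases z2 j with rfl | rfl <;> rcases z2 k with rfl | rfl <;>
      rcases z2 l with rfl | rfl <;> simp only [pw_zero, pw_one, one_mul, mul_one] at h' ⊢ <;>
      first
      | exact absurd h' h1
      | exact absurd h'.symm h1
      | exact absurd h' h2
      | exact absurd h'.symm h2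
      | exact absurd h' h3
      | exact absurd h'.symm h3
      | exact absurd h' h3'
      | exact absurd h'.symm h3'
      | exact absurd (left_eq_mul.1 h') h2
      | exact absurd (left_eq_mul.1 h'.symm) h2
      | exact absurd (right_eq_mul.1 h') h1
      | exact absurd (right_eq_mul.1 h'.symm) h1
      | exact rfl
  rw [← Nat.card_congr (Equiv.ofBijective f hf), Nat.card_prod, Nat.card_zmod]

/-- A complement attached to a base. -/
structure Cpl (B : Base W) where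
  H : Subgroup G
  le : H ≤ B.P.X
  card : Nat.card H = 60
  u_mem : W.u ∈ H
  e_mem : W.e1 ∈ H
  triv : ∀ x ∈ H, x ∈ B.P.F.Q → x = 1

theorem exists_cpl (B : Base W) : Nonempty (Cpl B) := by
  obtain ⟨H, h1, h2, h3, h4, h5⟩ := B.exists_H
  exact ⟨⟨H, h1, h2, h3, h4, h5⟩⟩

namespace Cpl

variable {B : Base W} (C : Cpl B)

/-- The same complement for the exchanged base. -/
def symm : Cpl B.symm where
  H := C.H
  le := B.X_eq.symm ▸ C.le
  card := C.card
  u_mem := C.u_mem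
  e_mem := C.e_mem
  triv x hx hQ := C.triv x hx (by
    show x ∈ B.P.F.Q
    rw [B.hQ, ← B.hQ']
    exact hQ)

theorem mem_D {x : G} (hx : x ∈ C.H) : x ∈ B.P.F.D := B.P.X_D (C.le hx)

theorem eq_one {x : G} (hx : x ∈ C.H) (h : B.P.cd x = oneC) : x = 1 :=
  C.triv x hx (B.P.mem_Q_of_cd (C.le hx) h)

theorem inj {x y : G} (hx : x ∈ C.H) (hy : y ∈ C.H) (h : B.P.cd x = B.P.cd y) : x = y :=
  inv_mul_eq_one.1 (C.triv _ (mul_mem (inv_mem hx) hy)
    (B.P.mem_UU.1 (B.P.mem_UU_of_cd (C.le hx) (C.le hy) h)).2)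

theorem onto {n : ℕ} (hn : n ∈ omList) : ∃ x ∈ C.H, B.P.cd x = n := by
  classical
  let f : C.H → {n // n ∈ omList} := fun x => ⟨B.P.cd x, B.P.cd_mem (C.mem_D x.2)⟩
  have hf : Function.Bijective f := (Nat.bijective_iff_injective_and_card f).2
    ⟨fun x y h => Subtype.ext (C.inj x.2 y.2 (congrArg Subtype.val h)), by
      rw [C.card, Nat.card_eq_fintype_card, Fintype.card_of_subtype omList.toFinset
        (fun n => List.mem_toFinset), List.toFinset_card_of_nodup omList_nodup.1, omList_nodup.2.1]⟩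
  obtain ⟨x, hx⟩ := hf.2 ⟨n, hn⟩
  exact ⟨x, x.2, congrArg Subtype.val hx⟩

/-- The rotation lies in the complement modulo `Q`. -/
theorem exists_rot : ∃ t ∈ C.H, t * W.u * t⁻¹ = W.e1 ∧ t * W.e1 * t⁻¹ = W.u * W.e1 := by
  obtain ⟨t, ht, htc⟩ := C.onto (B.P.cd_mem (B.P.X_D B.hd))
  have key : ∀ {x y : G}, x ∈ C.H → y ∈ C.H → B.d * x * B.d⁻¹ = y → t * x * t⁻¹ = y := by
    intro x y hx hy h
    refine C.inj (mul_mem (mul_mem ht hx) (inv_mem ht)) hy ?_
    rw [← h, Pr.cd, Pr.cd]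
    congr 1
    funext α
    have hdD := B.P.X_D B.hd
    rw [B.P.F.phi_mul (mul_mem (C.mem_D ht) (C.mem_D hx)) (inv_mem (C.mem_D ht)),
      B.P.F.phi_mul (C.mem_D ht) (C.mem_D hx), B.P.F.phi_mul (mul_mem hdD (C.mem_D hx)) (inv_mem hdD),
      B.P.F.phi_mul hdD (C.mem_D hx), B.P.phi_of_cd htc]
    congr 2
    apply B.P.F.phi_inj (C.mem_D ht)
    rw [← B.P.F.phi_mul (C.mem_D ht) (inv_mem (C.mem_D ht)), mul_inv_cancel, B.P.F.phi_one,
      B.P.phi_of_cd htc, ← B.P.F.phi_mul hdD (inv_mem hdD), mul_inv_cancel, B.P.F.phi_one]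
  exact ⟨t, ht, key C.u_mem C.e_mem B.hdu, key C.e_mem (mul_mem C.u_mem C.e_mem) B.hde⟩

theorem cd_pow {x : G} (hx : x ∈ B.P.F.D) (n : ℕ) :
    B.P.cd (x ^ (n + 1)) = mulC (B.P.cd x) (B.P.cd (x ^ n)) := by
  rw [pow_succ', B.P.cd_mul hx (pow_mem hx n)]

theorem fifth_one {k : G} (hk : k ∈ B.P.F.D) (h5 : k ^ 5 = 1) : fifthC (B.P.cd k) = oneC := by
  rw [fifthC]
  have h := congrArg B.P.cd h5
  rw [cd_pow hk, cd_pow hk, cd_pow hk, cd_pow hk, pow_one, B.P.cd_one] at h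
  exact h

/-- An element of order five of the complement fixes no nonzero vector. -/
theorem five_fix {k : G} (hk : k ∈ C.H) (h5 : k ^ 5 = 1) (h1 : k ≠ 1) {α : U4}
    (h : B.P.F.phi k α = α) : α = 0 := by
  have h' := List.all_eq_true.mp five_fpf (B.P.cd k) (B.P.cd_mem (C.mem_D hk))
  simp only [Bool.or_eq_true, Bool.not_eq_true', ← Bool.not_eq_true, List.all_eq_true, nbeq_iff,
    Bool.and_eq_true] at h'
  have h2 := ((h'.resolve_left fun e => h1 (C.eq_one hk e)).resolve_left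
    (not_not.mpr (fifth_one (C.mem_D hk) h5))).1 (enc α) (List.mem_range.2 (enc_lt α))
  rw [B.P.cd_app, h] at h2
  exact enc_inj _ _ ((h2.resolve_right (not_not.mpr rfl)).trans enc_zero.symm)

/-- No involution of the complement commutes with an element of order five. -/
theorem five_comm {k i : G} (hk : k ∈ C.H) (h5 : k ^ 5 = 1) (h1 : k ≠ 1) (hi : i ∈ C.H)
    (hi2 : i * i = 1) (hki : k * i = i * k) : i = 1 := by
  by_contra hne
  have h' := List.all_eq_true.mp five_fpf (B.P.cd k) (B.P.cd_mem (C.mem_D hk))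
  simp only [Bool.or_eq_true, Bool.not_eq_true', ← Bool.not_eq_true, List.all_eq_true, nbeq_iff,
    Bool.and_eq_true] at h'
  have h2 := (((h'.resolve_left fun e => h1 (C.eq_one hk e)).resolve_left
    (not_not.mpr (fifth_one (C.mem_D hk) h5))).2 (B.P.cd i) (B.P.cd_mem (C.mem_D hi))).resolve_left
      (fun e => hne (C.eq_one hi e))
  rcases h2 with h2 | h2
  · exact h2 (by rw [← B.P.cd_mul (C.mem_D hi) (C.mem_D hi), hi2, B.P.cd_one])
  · exact h2 (by rw [← B.P.cd_mul (C.mem_D hk) (C.mem_D hi), hki,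
      B.P.cd_mul (C.mem_D hi) (C.mem_D hk)])

theorem fix_zero : ∀ {α : U4}, B.P.F.phi W.u α = α → B.P.F.phi W.e1 α = α →
    α = 0 ∨ α = B.P.F.κ W.F.v := fun h1 h2 => B.fix_code h1 h2

/-- A cocycle on the complement vanishing at an element of order five is zero. -/
theorem cob_zero {k : G} (hk : k ∈ C.H) (h5 : k ^ 5 = 1) (hk1 : k ≠ 1) (γ : C.H → U4)
    (hγ : ∀ a b : C.H, γ (a * b) = γ a + B.P.F.phi a (γ b)) (hγk : γ ⟨k, hk⟩ = 0) :
    ∀ x, γ x = 0 := by
  let kH : C.H := ⟨k, hk⟩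
  let uH : C.H := ⟨W.u, C.u_mem⟩
  let eH : C.H := ⟨W.e1, C.e_mem⟩
  let E : Subgroup C.H := (fourSub W.u W.e1 W.u_sq Base.e_sq Base.ue_comm).subgroupOf C.H
  have hEH : fourSub W.u W.e1 W.u_sq Base.e_sq Base.ue_comm ≤ C.H := by
    rintro _ ⟨i, j, rfl⟩
    exact mul_mem (pw_mem C.u_mem i) (pw_mem C.e_mem j)
  have hγ1 : γ 1 = 0 := by
    have h := hγ 1 1
    rw [mul_one, OneMemClass.coe_one, B.P.F.phi_one, ZModModule.add_self] at h
    exact h
  have hsq : ∀ {a : C.H}, a * a = 1 → B.P.F.phi a (γ a) = γ a := fun {a} ha => by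
    have h := hγ a a
    rw [ha, hγ1] at h
    exact ((add_eq_zero_iff_eq_neg.1 h.symm).trans (ZModModule.neg_eq_self _)).symm
  have hu2 : uH * uH = 1 := Subtype.ext W.u_sq
  have he2 : eH * eH = 1 := Subtype.ext Base.e_sq
  have hpq : γ uH + B.P.F.phi W.e1 (γ uH) = γ eH + B.P.F.phi W.u (γ eH) := by
    have h := hγ uH eH
    rw [show uH * eH = eH * uH from Subtype.ext Base.ue_comm, hγ eH uH] at h
    change γ eH + B.P.F.phi W.e1 (γ uH) = γ uH + B.P.F.phi W.u (γ eH) at h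
    calc γ uH + B.P.F.phi W.e1 (γ uH)
        = γ uH + (γ eH + B.P.F.phi W.e1 (γ uH)) + γ eH := by
          rw [add_comm (γ eH) (B.P.F.phi W.e1 (γ uH)), add_assoc, add_assoc, ZModModule.add_self,
            add_zero]
      _ = γ uH + (γ uH + B.P.F.phi W.u (γ eH)) + γ eH := by rw [h]
      _ = _ := by rw [← add_assoc, ZModModule.add_self, zero_add, add_comm]
  have hp : B.P.F.phi W.u (γ uH) = γ uH := hsq (a := uH) hu2
  have hq : B.P.F.phi W.e1 (γ eH) = γ eH := hsq (a := eH) he2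
  obtain ⟨m, hm1, hm2⟩ := B.P.free_pair B.u_X B.e_X W.u_sq Base.e_sq Base.ue_comm B.u_notQ B.e_notQ
    B.ue_notQ (fun _ => B.fix_code) hp hq hpq
  let γ' : C.H → U4 := fun x => γ x + (m + B.P.F.phi x m)
  have hγ' : ∀ a b : C.H, γ' (a * b) = γ' a + B.P.F.phi a (γ' b) := by
    intro a b
    simp only [γ', hγ, B.P.F.phi_add, Subgroup.coe_mul, B.P.F.phi_mul (C.mem_D a.2) (C.mem_D b.2)]
    calc γ a + B.P.F.phi a (γ b) + (m + B.P.F.phi a (B.P.F.phi b m))
        = γ a + B.P.F.phi a (γ b) + (m + B.P.F.phi a (B.P.F.phi b m)) +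
          (B.P.F.phi a m + B.P.F.phi a m) := by rw [ZModModule.add_self, add_zero]
      _ = _ := by abel
  have hu0 : γ' uH = 0 := by
    show γ uH + (m + B.P.F.phi W.u m) = 0
    rw [hm1, ZModModule.add_self]
  have he0 : γ' eH = 0 := by
    show γ eH + (m + B.P.F.phi W.e1 m) = 0
    rw [hm2, ZModModule.add_self]
  have hE0 : ∀ h ∈ E, γ' h = 0 := by
    rintro h ⟨i, j, he⟩
    have h10 : γ' 1 = 0 := by
      show γ 1 + (m + B.P.F.phi (1 : G) m) = 0
      rw [hγ1, B.P.F.phi_one, ZModModule.add_self, add_zero]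
    have e : h = pw uH i * pw eH j := by
      refine Subtype.ext ?_
      rw [show ((h : C.H) : G) = pw W.u i * pw W.e1 j from he]
      rcases z2 i with rfl | rfl <;> rcases z2 j with rfl | rfl <;> simp [uH, eH]
    rw [e, hγ']
    rcases z2 i with rfl | rfl <;> rcases z2 j with rfl | rfl <;>
      simp [h10, hu0, he0, B.P.F.phi_zero]
  have hidx : Odd E.index := by
    have h := E.card_mul_index
    have hc : Nat.card E = 4 := by
      rw [Nat.card_congr (Subgroup.subgroupOfEquivOfLe hEH).toEquiv]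
      exact card_fourSub W.u_sq Base.e_sq Base.ue_comm W.u_ne (fun e => B.e_notQ (e ▸ one_mem _))
        (fun e => B.ue_notQ (e ▸ one_mem _))
    rw [hc, C.card] at h
    exact ⟨7, by omega⟩
  obtain ⟨m', hm'⟩ := avg_cob E hidx (fun x => B.P.F.phi x) (fun x => B.P.F.phi_zero x)
    (fun x => B.P.F.phi_add x) γ' hγ' hE0
  have hall : ∀ x : C.H, γ x = (m + m') + B.P.F.phi x (m + m') := by
    intro x
    rw [B.P.F.phi_add]
    calc γ x = γ' x + (m + B.P.F.phi x m) := by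
          simp only [γ', add_assoc, ZModModule.add_self, add_zero]
      _ = m' + B.P.F.phi x m' + (m + B.P.F.phi x m) := by rw [hm']
      _ = _ := by abel
  have h0 : m + m' = 0 := C.five_fix hk h5 hk1
    ((add_eq_zero_iff_eq_neg.1 ((hall kH).symm.trans hγk)).trans (ZModModule.neg_eq_self _)).symm
  intro x
  rw [hall, h0, B.P.F.phi_zero, add_zero]

/-- A complement in `D` sharing an element of order five is the same. -/
theorem uniq {H2 : Subgroup G} (hle : H2 ≤ B.P.F.D) (hcard : Nat.card H2 = 60)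
    (htriv : ∀ x ∈ H2, B.P.cd x = oneC → x = 1) {k : G} (hk : k ∈ C.H) (hk2 : k ∈ H2)
    (h5 : k ^ 5 = 1) (hk1 : k ≠ 1) : H2 = C.H := by
  classical
  have hinj2 : ∀ {x y : G}, x ∈ H2 → y ∈ H2 → B.P.cd x = B.P.cd y → x = y := fun {x y} hx hy h =>
    inv_mul_eq_one.1 (htriv _ (mul_mem (inv_mem hx) hy) (B.P.cd_of_phi fun α => by
      rw [B.P.F.phi_mul (inv_mem (hle hx)) (hle hy), ← B.P.phi_of_cd h α, B.P.F.phi_inv (hle hx)]))
  have honto2 : ∀ n ∈ omList, ∃ y ∈ H2, B.P.cd y = n := by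
    intro n hn
    let f : H2 → {n // n ∈ omList} := fun x => ⟨B.P.cd x, B.P.cd_mem (hle x.2)⟩
    have hf : Function.Bijective f := (Nat.bijective_iff_injective_and_card f).2
      ⟨fun x y h => Subtype.ext (hinj2 x.2 y.2 (congrArg Subtype.val h)), by
        rw [hcard, Nat.card_eq_fintype_card, Fintype.card_of_subtype omList.toFinset
          (fun n => List.mem_toFinset), List.toFinset_card_of_nodup omList_nodup.1, omList_nodup.2.1]⟩
    obtain ⟨x, hx⟩ := hf.2 ⟨n, hn⟩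
    exact ⟨x, x.2, congrArg Subtype.val hx⟩
  choose y hyH hyc using fun x : C.H => honto2 _ (B.P.cd_mem (C.mem_D x.2))
  have hy_mul : ∀ a b, y (a * b) = y a * y b := fun a b => by
    refine hinj2 (hyH _) (mul_mem (hyH a) (hyH b)) ?_
    rw [hyc, B.P.cd_mul (hle (hyH a)) (hle (hyH b)), hyc, hyc]
    exact B.P.cd_mul (C.mem_D a.2) (C.mem_D b.2)
  set w : C.H → G := fun x => y x * (x : G)⁻¹ with hwd
  have hwD : ∀ x, w x ∈ B.P.F.D := fun x => mul_mem (hle (hyH x)) (inv_mem (C.mem_D x.2))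
  have hwI : ∀ x, ∃ α β, B.P.F.Is (w x) α β := fun x => B.P.F.Is_of_phi (hwD x) fun γ => by
    rw [hwd, B.P.F.phi_mul (hle (hyH x)) (inv_mem (C.mem_D x.2)), B.P.phi_of_cd (hyc x),
      ← B.P.F.phi_mul (C.mem_D x.2) (inv_mem (C.mem_D x.2)), mul_inv_cancel, B.P.F.phi_one]
  choose α β hI using hwI
  have hw_mul : ∀ a b : C.H, w (a * b) = w a * ((a : G) * w b * (a : G)⁻¹) := by
    intro a b
    simp only [hwd, hy_mul, Subgroup.coe_mul]
    group
  have hmul : ∀ a b : C.H, α (a * b) = α a + B.P.F.phi a (α b) ∧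
      β (a * b) = β a + B.P.F.phi a (β b) := by
    intro a b
    have h := Fr.Is.mul B.P.F (hI a) (Fr.Is.conj B.P.F (C.mem_D a.2) (hI b))
    rw [← hw_mul] at h
    exact Fr.Is.unique B.P.F (hI _) h
  let kH : C.H := ⟨k, hk⟩
  have hk0 : α kH = 0 ∧ β kH = 0 := by
    have e : w kH = 1 := by
      rw [hwd]
      show y kH * k⁻¹ = 1
      rw [hinj2 (hyH kH) hk2 (hyc kH), mul_inv_cancel]
    exact Fr.Is.unique B.P.F (hI kH) (e ▸ B.P.F.Is_one)
  let uH : C.H := ⟨W.u, C.u_mem⟩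
  let eH : C.H := ⟨W.e1, C.e_mem⟩
  let E : Subgroup C.H := (fourSub W.u W.e1 W.u_sq Base.e_sq Base.ue_comm).subgroupOf C.H
  have hEH : fourSub W.u W.e1 W.u_sq Base.e_sq Base.ue_comm ≤ C.H := by
    rintro _ ⟨i, j, rfl⟩
    exact mul_mem (pw_mem C.u_mem i) (pw_mem C.e_mem j)
  have hα : ∀ x, α x = 0 := C.cob_zero hk h5 hk1 α (fun a b => (hmul a b).1) hk0.1
  have hβ : ∀ x, β x = 0 := C.cob_zero hk h5 hk1 β (fun a b => (hmul a b).2) hk0.2
  have hpz : ∀ x, ∃ p : ZMod 2 × ZMod 2, w x = B.P.F.pz p.1 p.2 := fun x => by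
    have h := hI x
    rw [hα, hβ] at h
    obtain ⟨i, j, e⟩ := Fr.Is.eq_pz B.P.F h
    exact ⟨(i, j), e⟩
  choose ψ hψ using hpz
  let Ψ : C.H →* Multiplicative (ZMod 2 × ZMod 2) :=
    MonoidHom.mk' (fun x => Multiplicative.ofAdd (ψ x)) fun a b => by
      refine congrArg Multiplicative.ofAdd (?_ : ψ (a * b) = ψ a + ψ b)
      have h := hw_mul a b
      rw [hψ, hψ, hψ, B.P.F.pz_comm (C.mem_D a.2), mul_inv_cancel_right, B.P.F.pz_mul] at h
      obtain ⟨h1, h2⟩ := B.P.F.pz_inj h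
      exact Prod.ext h1 h2
  obtain ⟨t, ht, htu, hte⟩ := C.exists_rot
  let tH : C.H := ⟨t, ht⟩
  have hΨc : ∀ x : C.H, Ψ (tH * x * tH⁻¹) = Ψ x := fun x => by
    rw [map_mul, map_mul, mul_comm (Ψ tH), map_inv, mul_inv_cancel_right]
  have heu : Ψ eH = Ψ uH := by
    rw [← hΨc uH]
    exact congrArg Ψ (Subtype.ext htu.symm)
  have hu0 : Ψ uH = 1 := by
    have h := hΨc eH
    rw [show tH * eH * tH⁻¹ = uH * eH from Subtype.ext hte, map_mul, mul_eq_right] at h
    exact h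
  have hker : Ψ.ker = ⊤ := by
    have hk' : kH ∈ Ψ.ker := by
      rw [MonoidHom.mem_ker]
      show Multiplicative.ofAdd (ψ kH) = 1
      have h := hψ kH
      rw [hwd] at h
      simp only at h
      rw [hinj2 (hyH kH) hk2 (hyc kH), mul_inv_cancel] at h
      obtain ⟨h1, h2⟩ := B.P.F.pz_eq_one h.symm
      rw [show ψ kH = 0 from Prod.ext h1 h2, ofAdd_zero]
    have hEk : E ≤ Ψ.ker := by
      rintro h ⟨i, j, he⟩
      rw [show h = pw uH i * pw eH j from Subtype.ext (he.trans (by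
        rcases z2 i with rfl | rfl <;> rcases z2 j with rfl | rfl <;> simp [uH, eH])), MonoidHom.mem_ker]
      rcases z2 i with rfl | rfl <;> rcases z2 j with rfl | rfl <;> simp [heu, hu0]
    have h5' : 5 ∣ Nat.card Ψ.ker := by
      have ho : orderOf k = 5 := by
        haveI : Fact (Nat.Prime 5) := ⟨by norm_num⟩
        exact orderOf_eq_prime h5 hk1
      rw [← ho, show orderOf k = orderOf kH from (Subgroup.orderOf_coe kH)]
      exact Subgroup.orderOf_dvd_natCard _ hk'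
    have h4' : 4 ∣ Nat.card Ψ.ker := by
      rw [← card_fourSub W.u_sq Base.e_sq Base.ue_comm W.u_ne (fun e => B.e_notQ (e ▸ one_mem _))
        (fun e => B.ue_notQ (e ▸ one_mem _)), ← Nat.card_congr (Subgroup.subgroupOfEquivOfLe hEH).toEquiv]
      exact Subgroup.card_dvd_of_le hEk
    have hidx : Ψ.ker.index ∣ 4 := by
      rw [Subgroup.index_ker]
      have h := Subgroup.card_subgroup_dvd_card Ψ.range
      rwa [show Nat.card (Multiplicative (ZMod 2 × ZMod 2)) = 4 by simp] at h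
    have h := Ψ.ker.card_mul_index
    rw [C.card] at h
    have h20 : 20 ∣ Nat.card Ψ.ker := Nat.Coprime.mul_dvd_of_dvd_of_dvd (by norm_num : Nat.Coprime 4 5) h4' h5'
    obtain ⟨a, ha⟩ := h20
    rw [ha] at h
    refine Subgroup.index_eq_one.1 ?_
    have : Ψ.ker.index ∣ 3 := ⟨a, by linarith⟩
    exact Nat.dvd_one.1 ((by decide : Nat.gcd 4 3 = 1) ▸ Nat.dvd_gcd hidx this)
  have hyx : ∀ x : C.H, y x = x := fun x => by
    have h : Ψ x = 1 := MonoidHom.mem_ker.1 (hker ▸ Subgroup.mem_top x)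
    have h0 : ψ x = 0 := Multiplicative.ofAdd.injective (h.trans ofAdd_zero.symm)
    have h' := hψ x
    rw [h0] at h'
    exact mul_inv_eq_one.1 (h'.trans B.P.F.pz_zero)
  refine (Subgroup.eq_of_le_of_card_ge (fun a ha => ?_) (by rw [C.card, hcard])).symm
  · show a ∈ H2
    have := hyH ⟨a, ha⟩
    rwa [hyx] at this

/-- The elements of `D` trivial on the middle layer. -/
def kerD (P : Pr G) : Subgroup G where
  carrier := {x | x ∈ P.F.D ∧ P.cd x = oneC}
  one_mem' := ⟨one_mem _, P.cd_one⟩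
  mul_mem' := fun {a b} ha hb => ⟨mul_mem ha.1 hb.1, P.cd_of_phi fun α => by
    rw [P.F.phi_mul ha.1 hb.1, P.phi_of_cd_one hb.2, P.phi_of_cd_one ha.2]⟩
  inv_mem' := fun {a} ha => ⟨inv_mem ha.1, P.cd_of_phi fun α => by
    conv_lhs => rw [← P.phi_of_cd_one ha.2 α]
    rw [P.F.phi_inv ha.1]⟩

omit C in
theorem kerD_norm {x n : G} (hx : x ∈ B.P.F.D) (hn : n ∈ kerD B.P) : x * n * x⁻¹ ∈ kerD B.P :=
  ⟨mul_mem (mul_mem hx hn.1) (inv_mem hx), B.P.cd_of_phi fun α => by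
    rw [B.P.F.phi_mul (mul_mem hx hn.1) (inv_mem hx), B.P.F.phi_mul hx hn.1, B.P.phi_of_cd_one hn.2,
      ← B.P.F.phi_mul hx (inv_mem hx), mul_inv_cancel, B.P.F.phi_one]⟩

omit C in
theorem kerD_four {n : G} (hn : n ∈ kerD B.P) : n ^ 4 = 1 := by
  obtain ⟨α, β, hI⟩ := B.P.F.Is_of_phi hn.1 (B.P.phi_of_cd_one hn.2)
  rw [show n ^ 4 = n * n * (n * n) by rw [show (4 : ℕ) = 2 * 2 from rfl, pow_mul, sq, sq], Fr.Is.sq B.P.F hI, B.P.F.pz_sq]

/-- A conjugate of the complement inside `D` meets the kernel trivially. -/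
theorem conj_triv {p k : G} (hp : ∀ x ∈ C.H, p * x * p⁻¹ ∈ B.P.F.D) (hk : k ∈ C.H)
    (h5 : k ^ 5 = 1) (hk1 : k ≠ 1) : ∀ x ∈ C.H, B.P.cd (p * x * p⁻¹) = oneC → x = 1 := by
  classical
  let N : Subgroup C.H := ((kerD B.P).comap (MulAut.conj p).toMonoidHom).subgroupOf C.H
  have hN : ∀ x : C.H, x ∈ N ↔ p * (x : G) * p⁻¹ ∈ kerD B.P := fun x => Iff.rfl
  haveI : N.Normal := ⟨fun n hn g => (hN _).2 (by
    have h := kerD_norm (B := B) (hp _ g.2) ((hN n).1 hn)
    convert h using 1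
    push_cast
    group)⟩
  have hfour : ∀ n : N, n ^ 4 = 1 := fun n => by
    refine Subtype.ext (Subtype.ext ?_)
    have h := kerD_four ((hN n.1).1 n.2)
    rw [conj_pow] at h
    push_cast
    exact conj_eq_one_iff.1 h
  have hpN : IsPGroup 2 N := fun n => ⟨2, hfour n⟩
  obtain ⟨m, hm⟩ := (IsPGroup.iff_card (p := 2)).1 hpN
  have hfac : (Nat.card N).factorial ∣ 24 := by
    have h60 : Nat.card N ∣ 60 := C.card ▸ Subgroup.card_subgroup_dvd_card N
    rw [hm] at h60 ⊢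
    have hle : m ≤ 2 := by
      by_contra h
      exact absurd (dvd_trans (pow_dvd_pow 2 (by omega : 3 ≤ m)) h60) (by norm_num)
    interval_cases m <;> decide
  let kH : C.H := ⟨k, hk⟩
  let σ : Equiv.Perm N := MulAut.toPerm N (MulAut.conjNormal kH)
  have hσ : σ = 1 := by
    have h1 : orderOf σ ∣ 24 := (orderOf_dvd_natCard σ).trans (by rw [Nat.card_perm]; exact hfac)
    have h2 : orderOf σ ∣ 5 := orderOf_dvd_of_pow_eq_one (by
      rw [← map_pow, ← map_pow, show kH ^ 5 = 1 from Subtype.ext h5, map_one, map_one])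
    exact orderOf_eq_one_iff.1 (Nat.dvd_one.1 ((by decide : Nat.gcd 24 5 = 1) ▸ Nat.dvd_gcd h1 h2))
  have hcomm : ∀ n : N, k * ((n : C.H) : G) = ((n : C.H) : G) * k := fun n => by
    have h := congrArg (fun t : N => ((t : C.H) : G)) (Equiv.ext_iff.1 hσ n)
    change k * ((n : C.H) : G) * k⁻¹ = _ at h
    exact mul_inv_eq_iff_eq_mul.1 h
  have hone : ∀ n : N, n * n = 1 → n = 1 := fun n h2 => Subtype.ext (Subtype.ext
    (C.five_comm hk h5 hk1 n.1.2 (congrArg (fun t : N => ((t : C.H) : G)) h2) (hcomm n)))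
  intro x hx h
  let n : N := ⟨⟨x, hx⟩, (hN _).2 ⟨hp x hx, h⟩⟩
  have h4 := hfour n
  rw [show n ^ 4 = n * n * (n * n) by rw [show (4 : ℕ) = 2 * 2 from rfl, pow_mul, sq, sq]] at h4
  exact congrArg (fun t : N => ((t : C.H) : G)) (hone n (hone _ h4))

omit C in
theorem card_five {D' : Subgroup G} (hD : D' ≤ Subgroup.centralizer ({B.P.F.z} : Set G)) {k : G}
    (hk : k ∈ D') (ho : orderOf k = 5) : 5 ^ (Nat.card D').factorization 5 = 5 := by
  have h5 : 5 ∣ Nat.card D' := ho ▸ Subgroup.orderOf_dvd_natCard _ hk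
  have hne : Nat.card D' ≠ 0 := Nat.card_pos.ne'
  have hp : Nat.Prime 5 := by norm_num
  have h1 : 1 ≤ (Nat.card D').factorization 5 :=
    (hp.pow_dvd_iff_le_factorization hne).1 (by rwa [pow_one])
  have h2 : ¬ 2 ≤ (Nat.card D').factorization 5 := fun h => by
    have h25 := ((hp.pow_dvd_iff_le_factorization hne).2 h).trans (Subgroup.card_dvd_of_le hD)
    rw [B.P.F.card_Cz] at h25
    norm_num at h25
  rw [show (Nat.card D').factorization 5 = 1 by omega, pow_one]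

/-- A swap of `z` and `f` normalising the complement. -/
theorem exists_swap_H : ∃ p : G, p * W.F.z * p⁻¹ = B.P.F.v ∧ p * B.P.F.v * p⁻¹ = W.F.z ∧
    ∀ x ∈ C.H, p * x * p⁻¹ ∈ C.H := by
  classical
  haveI : Fact (Nat.Prime 5) := ⟨by norm_num⟩
  obtain ⟨p, hpz, hpv⟩ := exists_swap B.P.F
  have hconj : ∀ (q x y : G), x * y = y * x →
      q * x * q⁻¹ * (q * y * q⁻¹) = q * y * q⁻¹ * (q * x * q⁻¹) := by
    intro q x y h
    calc q * x * q⁻¹ * (q * y * q⁻¹) = q * (x * y) * q⁻¹ := by group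
      _ = q * (y * x) * q⁻¹ := by rw [h]
      _ = _ := by group
  have hpD : ∀ x ∈ B.P.F.D, p * x * p⁻¹ ∈ B.P.F.D := fun x hx => by
    obtain ⟨h1, h2⟩ := B.P.F.mem_D.1 hx
    refine B.P.F.mem_D.2 ⟨?_, ?_⟩
    · rw [← hpv]; exact hconj p _ _ h2
    · rw [← hpz]; exact hconj p _ _ h1
  obtain ⟨⟨k, hk⟩, hko⟩ := exists_prime_orderOf_dvd_card' (G := C.H) 5 (by rw [C.card]; norm_num)
  rw [← Subgroup.orderOf_coe] at hko
  change orderOf k = 5 at hko
  have h5 : k ^ 5 = 1 := hko ▸ pow_orderOf_eq_one k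
  have hk1 : k ≠ 1 := fun e => by simp [e] at hko
  set k2 := p * k * p⁻¹ with hk2d
  have hkD := C.mem_D hk
  have hk2D : k2 ∈ B.P.F.D := hpD _ hkD
  have hk2o : orderOf k2 = 5 := by rw [hk2d, Involution.orderOf_conj, hko]
  have hle : B.P.F.D ≤ Subgroup.centralizer ({B.P.F.z} : Set G) := fun x hx =>
    Subgroup.mem_centralizer_singleton_iff.2 (B.P.F.mem_D.1 hx).1
  have hc : 5 ^ (Nat.card B.P.F.D).factorization 5 = 5 := card_five (B := B) hle hkD hko
  have hz : ∀ y : G, orderOf y = 5 → y ∈ B.P.F.D →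
      Nat.card ((Subgroup.zpowers y).subgroupOf B.P.F.D) = 5 ^ (Nat.card B.P.F.D).factorization 5 := by
    intro y hy hyD
    rw [hc, Nat.card_congr (Subgroup.subgroupOfEquivOfLe (Subgroup.zpowers_le.2 hyD)).toEquiv,
      Nat.card_zpowers, hy]
  let S1 : Sylow 5 B.P.F.D := Sylow.ofCard _ (hz k hko hkD)
  let S2 : Sylow 5 B.P.F.D := Sylow.ofCard _ (hz k2 hk2o hk2D)
  obtain ⟨c, hcS⟩ := MulAction.exists_smul_eq B.P.F.D S2 S1
  have hck : (c : G) * k2 * (c : G)⁻¹ ∈ Subgroup.zpowers k := by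
    have hmem : c * (⟨k2, hk2D⟩ : B.P.F.D) * c⁻¹ ∈ (S1 : Subgroup B.P.F.D) := by
      rw [← hcS]
      exact ⟨⟨k2, hk2D⟩, Subgroup.mem_zpowers k2, rfl⟩
    exact hmem
  obtain ⟨hcz, hcv⟩ := B.P.F.mem_D.1 c.2
  refine ⟨(c : G) * p, ?_, ?_, fun x hx => ?_⟩
  · calc (c : G) * p * W.F.z * ((c : G) * p)⁻¹ = (c : G) * (p * W.F.z * p⁻¹) * (c : G)⁻¹ := by group
      _ = _ := by rw [← B.hz, hpz, hcv, mul_inv_cancel_right]
  · calc (c : G) * p * B.P.F.v * ((c : G) * p)⁻¹ = (c : G) * (p * B.P.F.v * p⁻¹) * (c : G)⁻¹ := by group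
      _ = _ := by rw [hpv, hcz, mul_inv_cancel_right, B.hz]
  set q := (c : G) * p with hqd
  have hqD : ∀ y ∈ C.H, q * y * q⁻¹ ∈ B.P.F.D := fun y hy => by
    rw [show q * y * q⁻¹ = (c : G) * (p * y * p⁻¹) * (c : G)⁻¹ by rw [hqd]; group]
    exact mul_mem (mul_mem c.2 (hpD _ (C.mem_D hy))) (inv_mem c.2)
  let H2 : Subgroup G := C.H.map (MulAut.conj q).toMonoidHom
  have hH2 : H2 = C.H := by
    refine C.uniq ?_ ?_ ?_ hk ?_ h5 hk1
    · rintro _ ⟨y, hy, rfl⟩; exact hqD y hy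
    · rw [Subgroup.card_map_of_injective (MulAut.conj q).injective, C.card]
    · rintro _ ⟨y, hy, rfl⟩ h
      rw [C.conj_triv hqD hk h5 hk1 y hy h, map_one]
    · have hk' : q * k * q⁻¹ ∈ Subgroup.zpowers k := by
        rw [show q * k * q⁻¹ = (c : G) * k2 * (c : G)⁻¹ by rw [hqd, hk2d]; group]
        exact hck
      have he : Subgroup.zpowers (q * k * q⁻¹) = Subgroup.zpowers k :=
        Subgroup.eq_of_le_of_card_ge (Subgroup.zpowers_le.2 hk')
          (by rw [Nat.card_zpowers, Nat.card_zpowers, Involution.orderOf_conj])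
      have hle2 : Subgroup.zpowers (q * k * q⁻¹) ≤ H2 := Subgroup.zpowers_le.2 ⟨k, hk, rfl⟩
      exact hle2 (he.symm ▸ Subgroup.mem_zpowers k)
  rw [← hH2]
  exact ⟨x, hx, rfl⟩

/-- An involution centralising the complement and `f`, moving `z` to `z f`. -/
theorem exists_refl : ∃ r : G, (∀ x ∈ C.H, r * x = x * r) ∧ r * B.P.F.v = B.P.F.v * r ∧
    r * W.F.z * r = W.F.z * B.P.F.v ∧ r * r = 1 ∧ r ≠ 1 ∧ IsConj W.F.z r := by
  obtain ⟨p, hpz, hpv, hpH⟩ := C.exists_swap_H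
  have hmap : C.H.map (MulAut.conj p).toMonoidHom = C.H :=
    Subgroup.eq_of_le_of_card_ge (by rintro _ ⟨x, hx, rfl⟩; exact hpH x hx)
      (by rw [Subgroup.card_map_of_injective (MulAut.conj p).injective])
  have hgz : B.P.g * W.F.z = W.F.z * B.P.g := B.hz ▸ B.P.gz
  refine ⟨p * B.P.g * p⁻¹, fun x hx => ?_, ?_, ?_, ?_, fun e => B.P.g_ne (conj_eq_one_iff.1 e), ?_⟩
  · rw [← hmap] at hx
    obtain ⟨y, hy, rfl⟩ := hx
    have h := ((B.mem_X_iff.1 (C.le hy)).2.2).symm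
    show p * B.P.g * p⁻¹ * (p * y * p⁻¹) = p * y * p⁻¹ * (p * B.P.g * p⁻¹)
    calc p * B.P.g * p⁻¹ * (p * y * p⁻¹) = p * (B.P.g * y) * p⁻¹ := by group
      _ = p * (y * B.P.g) * p⁻¹ := by rw [h]
      _ = _ := by group
  · rw [← hpz]
    calc p * B.P.g * p⁻¹ * (p * W.F.z * p⁻¹) = p * (B.P.g * W.F.z) * p⁻¹ := by group
      _ = p * (W.F.z * B.P.g) * p⁻¹ := by rw [hgz]
      _ = _ := by group
  · have hgi : B.P.g⁻¹ = B.P.g := inv_eq_of_mul_eq_one_right B.P.hg2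
    have h := B.P.g_conj_v
    rw [hgi, B.hz] at h
    calc p * B.P.g * p⁻¹ * W.F.z * (p * B.P.g * p⁻¹)
        = p * B.P.g * p⁻¹ * (p * B.P.F.v * p⁻¹) * (p * B.P.g * p⁻¹) := by rw [hpv]
      _ = p * (B.P.g * B.P.F.v * B.P.g) * p⁻¹ := by group
      _ = p * (B.P.F.v * W.F.z) * p⁻¹ := by rw [h]
      _ = p * B.P.F.v * p⁻¹ * (p * W.F.z * p⁻¹) := by group
      _ = _ := by rw [hpv, hpz]
  · rw [show p * B.P.g * p⁻¹ * (p * B.P.g * p⁻¹) = p * (B.P.g * B.P.g) * p⁻¹ by group, B.P.hg2]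
    group
  · have h := B.P.F.isConj_of_mem_Q B.P.hgQ B.P.hg2 B.P.g_ne
    rw [B.hz] at h
    exact h.trans (isConj_iff.2 ⟨p, rfl⟩)

end Cpl

end Cfsg.Agent.SuzUnique
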