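/-
Generators of a group of Suzuki type (helper16).

* `Cpl.mem_of_comm` : the centraliser of `b` in `X` is the complement
* `Cpl.exists_d` : an involution of the complement completing the seven generators
* `exists_gens` : seven elements satisfying the relations, given the two facts on `L`
-/
import Cfsg.Agent.Lib.SuzUnique.Uniq
import Cfsg.Agent.Lib.SuzUnique.Five
import Cfsg.Agent.Lib.SuzUnique.PlaneUse
import Cfsg.Agent.Lib.SuzType.CountU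

set_option autoImplicit false
open scoped commutatorElement

namespace Cfsg.Agent.SuzUnique

open Cfsg.Agent.SuzType Cfsg.Agent.Orth Cfsg.Agent.LargeExtraspecial Cfsg.Agent.LargeExtraspecial.Cfg
open QuadraticMap (polar)

variable {G : Type*} [Group G]

/-- `⟨b⟩ H` for an involution centralising `H`. -/
def twoTimes (b : G) (H : Subgroup G) (hb : b * b = 1) (hc : ∀ x ∈ H, b * x = x * b) :
    Subgroup G where
  carrier := {x | ∃ i, ∃ h ∈ H, x = pw b i * h}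
  one_mem' := ⟨0, 1, one_mem _, by simp⟩
  mul_mem' := by
    rintro _ _ ⟨i, h, hh, rfl⟩ ⟨j, h', hh', rfl⟩
    refine ⟨i + j, h * h', mul_mem hh hh', ?_⟩
    have e : pw b j * h = h * pw b j := by
      rcases z2 j with rfl | rfl
      · simp
      · rw [pw_one]; exact hc h hh
    rw [pw_add hb]
    calc pw b i * h * (pw b j * h') = pw b i * (h * pw b j) * h' := by group
      _ = pw b i * (pw b j * h) * h' := by rw [e]
      _ = _ := by group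
  inv_mem' := by
    rintro _ ⟨i, h, hh, rfl⟩
    refine ⟨i, h⁻¹, inv_mem hh, ?_⟩
    rw [mul_inv_rev, pw_inv hb]
    rcases z2 i with rfl | rfl
    · simp
    · rw [pw_one]; exact (hc h⁻¹ (inv_mem hh)).symm

namespace Pr

variable (P : Pr G) [Finite G]

theorem qU_κ {s : G} (hs : s ∈ P.UU) (h2 : s * s = 1) : qU (P.F.κ s) = 0 := by
  have hQ := (P.mem_UU.1 hs).2
  have h := P.F.T.sq s hQ
  rw [h2, qm_eq, (P.F.mem_A_iff.1 (P.UU_A hs)).2, mul_zero, zero_add] at h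
  exact pw_inj P.F.z_ne (h.symm.trans (pw_zero _).symm)

theorem comm_κ {s t : G} (hs : s ∈ P.UU) (ht : t ∈ P.UU) :
    ⁅s, t⁆ = pw P.F.z (bU (P.F.κ s) (P.F.κ t)) := by
  rw [P.F.T.comm_Q (P.mem_UU.1 hs).2 (P.mem_UU.1 ht).2, polar_eq, (P.F.mem_A_iff.1 (P.UU_A hs)).2,
    (P.F.mem_A_iff.1 (P.UU_A ht)).2, mul_zero, zero_mul, zero_add, zero_add]
  rfl

end Pr

variable [Finite G] {W : Fu G} {B : Base W}

theorem Base.κ_v_ne (B : Base W) : B.P.F.κ W.F.v ≠ 0 := by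
  intro h
  have h1 : B.P.F.κ 1 = 0 := by simpa using B.P.κ_z 0
  obtain ⟨i, hi⟩ := B.P.eq_of_κ (one_mem _) B.v_UU (h1.trans h.symm)
  rw [one_mul, B.hz] at hi
  rcases z2 i with rfl | rfl
  · exact W.F.v_ne (hi.trans (pw_zero _))
  · exact W.F.v_ne_z (hi.trans (pw_one _))

theorem Base.zt_f (B : Base W) : W.Zt B.P.F.v := by
  refine ⟨W.mem_Cu.2 B.u_comm_f.symm, ?_⟩
  rw [← B.hz]
  exact isConj_iff.2 ⟨B.P.F.h, rfl⟩

theorem Base.v_sq (B : Base W) : B.P.F.v * B.P.F.v = 1 := B.P.F.v_sq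

theorem Base.fg_sq (B : Base W) : B.P.F.v * B.P.g * B.P.F.v * B.P.g = W.F.z := by
  have h := B.P.g_conj_v
  rw [inv_eq_of_mul_eq_one_right B.P.hg2] at h
  calc B.P.F.v * B.P.g * B.P.F.v * B.P.g = B.P.F.v * (B.P.g * B.P.F.v * B.P.g) := by group
    _ = W.F.z := by rw [h, ← mul_assoc, B.P.F.v_sq, one_mul, B.hz]

namespace Cpl

variable (C : Cpl B)

theorem comm_f {x : G} (hx : x ∈ C.H) : x * B.P.F.v = B.P.F.v * x := (B.mem_X_iff.1 (C.le hx)).2.1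
theorem comm_g {x : G} (hx : x ∈ C.H) : x * B.P.g = B.P.g * x := (B.mem_X_iff.1 (C.le hx)).2.2
theorem comm_z {x : G} (hx : x ∈ C.H) : x * W.F.z = W.F.z * x := (B.mem_X_iff.1 (C.le hx)).1

theorem exists_five : ∃ k ∈ C.H, k ^ 5 = 1 ∧ k ≠ 1 := by
  haveI : Fact (Nat.Prime 5) := ⟨by norm_num⟩
  obtain ⟨⟨k, hk⟩, ho⟩ := exists_prime_orderOf_dvd_card' (G := C.H) 5 (by rw [C.card]; norm_num)
  rw [← Subgroup.orderOf_coe] at ho
  change orderOf k = 5 at ho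
  exact ⟨k, hk, ho ▸ pow_orderOf_eq_one k, fun e => by simp [e] at ho⟩

/-- The centraliser of `b` in `X` is the complement. -/
theorem mem_of_comm {b : G} (hcb : ∀ x ∈ C.H, b * x = x * b) (hzb : ¬ b * W.F.z = W.F.z * b) {x : G}
    (hx : x ∈ B.P.X) (hxb : b * x = x * b) : x ∈ C.H := by
  obtain ⟨h, hh, hc⟩ := C.onto (B.P.cd_mem (B.P.X_D hx))
  have hs : h⁻¹ * x ∈ B.P.UU := B.P.mem_UU_of_cd (C.le hh) hx hc
  have hsb : b * (h⁻¹ * x) = h⁻¹ * x * b := by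
    rw [← mul_assoc, hcb _ (inv_mem hh), mul_assoc, hxb, mul_assoc]
  have hz0 : ∀ i, b * pw B.P.F.z i = pw B.P.F.z i * b → i = 0 := by
    intro i hi
    rcases z2 i with rfl | rfl
    · rfl
    · rw [pw_one, B.hz] at hi; exact absurd hi hzb
  have hsq : ∀ s ∈ B.P.UU, b * s = s * b → qU (B.P.F.κ s) = 0 := by
    intro s hs hsb
    refine B.P.qU_κ hs ?_
    have h2 := B.P.F.T.sq s (B.P.mem_UU.1 hs).2
    have h0 := hz0 _ (h2 ▸ (Commute.mul_right (hsb : Commute b s) hsb).eq)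
    rw [h2, h0, pw_zero]
  have hbil : ∀ s ∈ B.P.UU, ∀ t ∈ B.P.UU, b * s = s * b → b * t = t * b →
      bU (B.P.F.κ s) (B.P.F.κ t) = 0 := by
    intro s hs t ht hsb htb
    have hc : Commute b ⁅s, t⁆ := by
      rw [commutatorElement_def]
      exact ((Commute.mul_right (hsb : Commute b s) htb).mul_right
        (Commute.inv_right hsb)).mul_right (Commute.inv_right htb)
    rw [B.P.comm_κ hs ht] at hc
    exact hz0 _ hc.eq
  obtain ⟨k, hk, h5, hk1⟩ := C.exists_five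
  set s := h⁻¹ * x with hsd
  have hks : k * s * k⁻¹ ∈ B.P.UU := B.P.UU_norm (C.le hk) hs
  have hksb : b * (k * s * k⁻¹) = k * s * k⁻¹ * b :=
    ((Commute.mul_right (hcb k hk : Commute b k) hsb).mul_right (Commute.inv_right (hcb k hk))).eq
  have hκ := B.P.κ_conj (C.le hk) hs
  have hzero : B.P.F.κ s = 0 := by
    rcases witt_index _ _ (hsq s hs hsb) (hsq _ hks hksb) (hbil s hs _ hks hsb hksb) with h0 | h0 | h0
    · exact h0
    · rw [hκ] at h0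
      exact B.P.F.phi_inj (C.mem_D hk) (h0.trans (B.P.F.phi_zero k).symm)
    · rw [hκ] at h0
      exact C.five_fix hk h5 hk1 h0.symm
  have h1 : B.P.F.κ 1 = 0 := by simpa using B.P.κ_z 0
  obtain ⟨i, hi⟩ := B.P.eq_of_κ (one_mem _) hs (h1.trans hzero.symm)
  rw [one_mul] at hi
  rw [hz0 i (hi ▸ hsb), pw_zero, hsd, inv_mul_eq_one] at hi
  exact hi ▸ hh

/-- An involution of the complement moving `v` to a partner. -/
theorem exists_d {c : G} (hc : c = W.F.v ∨ c = W.F.v * W.F.z) :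
    ∃ d ∈ C.H, d * d = 1 ∧ (d * W.u) ^ 3 = 1 ∧ (c * d) ^ 4 = W.F.z := by
  have hu := C.mem_D C.u_mem
  have he := C.mem_D C.e_mem
  have hne : ∀ {x : G}, x ∈ C.H → x ≠ 1 → B.P.cd x ≠ oneC := fun hx h1 h => h1 (C.eq_one hx h)
  have he1 : W.e1 ≠ 1 := fun e => B.e_notQ (e ▸ one_mem _)
  have heu : W.e1 ≠ W.u := fun e => B.ue_notQ (by rw [e, W.u_sq]; exact one_mem _)
  have h := List.all_eq_true.mp four_gen (B.P.cd W.u) (B.P.cd_mem hu)
  simp only [Bool.or_eq_true, Bool.not_eq_true', ← Bool.not_eq_true, List.all_eq_true, nbeq_iff,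
    List.any_eq_true, Bool.and_eq_true] at h
  obtain ⟨n, hn, -, hn2, hn3, hn5⟩ := ((((((h.resolve_left (hne C.u_mem W.u_ne)).resolve_left
    (not_not.mpr (by rw [← B.P.cd_mul hu hu, W.u_sq, B.P.cd_one]))) (B.P.cd W.e1) (B.P.cd_mem he)).resolve_left
      (hne C.e_mem he1)).resolve_left (fun e => heu (C.inj C.e_mem C.u_mem e))).resolve_left
        (not_not.mpr (by rw [← B.P.cd_mul he he, Base.e_sq, B.P.cd_one]))).resolve_left
          (not_not.mpr (by rw [← B.P.cd_mul hu he, Base.ue_comm, B.P.cd_mul he hu]))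
  obtain ⟨d, hd, rfl⟩ := C.onto hn
  have hdD := C.mem_D hd
  have hd2 : d * d = 1 := C.eq_one (mul_mem hd hd) (by rw [B.P.cd_mul hdD hdD, hn2])
  have hd3 : (d * W.u) ^ 3 = 1 := C.eq_one (pow_mem (mul_mem hd C.u_mem) 3) (by
    have h := hn3
    rw [cubeC, ← B.P.cd_mul hdD hu, ← B.P.cd_mul (mul_mem hdD hu) (mul_mem hdD hu),
      ← B.P.cd_mul (mul_mem hdD hu) (mul_mem (mul_mem hdD hu) (mul_mem hdD hu))] at h
    rw [← h, pow_succ', sq])
  refine ⟨d, hd, hd2, hd3, ?_⟩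
  have hcU : c ∈ B.P.UU := by
    rcases hc with rfl | rfl
    · exact B.v_UU
    · exact mul_mem B.v_UU (B.hz ▸ B.P.z_mem_UU)
  have hcκ : B.P.F.κ c = B.P.F.κ W.F.v := by
    rcases hc with rfl | rfl
    · rfl
    · rw [← B.hz]
      simpa using B.P.κ_zpw 1 W.F.v (B.P.mem_UU.1 B.v_UU).2
  have fixv : ∀ {x : G}, x ∈ B.P.X → x * W.F.v = W.F.v * x →
      B.P.F.phi x (B.P.F.κ W.F.v) = B.P.F.κ W.F.v := by
    intro x hx hxv
    rw [← B.P.κ_conj hx B.v_UU, mul_inv_eq_iff_eq_mul.2 hxv]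
  have hue : B.P.F.phi W.u (B.P.F.κ c) = B.P.F.κ c ∧ B.P.F.phi W.e1 (B.P.F.κ c) = B.P.F.κ c := by
    rw [hcκ]
    exact ⟨fixv B.u_X W.uv, fixv B.e_X (W.F.mem_D.1 (W.mem_S0.1 (W.Et_le (W.E_le W.e1_mem))).2).2⟩
  have hdc : B.P.F.phi d (B.P.F.κ c) ≠ B.P.F.κ c := by
    intro hfix
    have kill : ∀ {x : G}, x ∈ C.H → x ≠ 1 → fifthC (B.P.cd x) = oneC →
        B.P.F.phi x (B.P.F.κ c) = B.P.F.κ c → False := by
      intro x hx hx1 h5 hf
      have hx5 : x ^ 5 = 1 := C.eq_one (pow_mem hx 5) (by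
        rw [cd_pow (C.mem_D hx), cd_pow (C.mem_D hx), cd_pow (C.mem_D hx), cd_pow (C.mem_D hx), pow_one]
        exact h5)
      exact B.κ_v_ne (hcκ ▸ C.five_fix hx hx5 hx1 hf)
    rcases hn5 with ⟨a1, a2⟩ | ⟨a1, a2⟩
    · refine kill (mul_mem hd C.e_mem) ?_ (by rw [B.P.cd_mul hdD he]; exact a2) ?_
      · intro e; exact a1 (by rw [← B.P.cd_mul hdD he, e, B.P.cd_one])
      · rw [B.P.F.phi_mul hdD he, hue.2, hfix]
    · refine kill (mul_mem (mul_mem hd C.u_mem) C.e_mem) ?_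
        (by rw [B.P.cd_mul (mul_mem hdD hu) he, B.P.cd_mul hdD hu]; exact a2) ?_
      · intro e; exact a1 (by rw [← B.P.cd_mul hdD hu, ← B.P.cd_mul (mul_mem hdD hu) he, e, B.P.cd_one])
      · rw [B.P.F.phi_mul (mul_mem hdD hu) he, hue.2, B.P.F.phi_mul hdD hu, hue.1, hfix]
  have hdi : d⁻¹ = d := inv_eq_of_mul_eq_one_right hd2
  have hyU : d * c * d⁻¹ ∈ B.P.UU := B.P.UU_norm (C.le hd) hcU
  have hyκ := B.P.κ_conj (C.le hd) hcU
  have hc2 : c * c = 1 := by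
    rcases hc with rfl | rfl
    · exact W.F.v_sq
    · calc W.F.v * W.F.z * (W.F.v * W.F.z) = W.F.v * (W.F.z * W.F.v) * W.F.z := by group
        _ = W.F.v * (W.F.v * W.F.z) * W.F.z := by rw [W.F.zv]
        _ = 1 := by rw [← mul_assoc W.F.v W.F.v, W.F.v_sq, one_mul, W.F.z_sq]
  have hy2 : d * c * d⁻¹ * (d * c * d⁻¹) = 1 := by
    calc d * c * d⁻¹ * (d * c * d⁻¹) = d * (c * c) * d⁻¹ := by group
      _ = 1 := by rw [hc2]; group
  have hb : bU (B.P.F.κ c) (B.P.F.κ (d * c * d⁻¹)) = 1 := by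
    rcases z2 (bU (B.P.F.κ c) (B.P.F.κ (d * c * d⁻¹))) with h0 | h1
    · exfalso
      rcases witt_index _ _ (B.P.qU_κ hcU hc2) (B.P.qU_κ hyU hy2) h0 with e | e | e
      · exact B.κ_v_ne (hcκ ▸ e)
      · rw [hyκ] at e
        exact B.κ_v_ne (hcκ ▸ B.P.F.phi_inj hdD (e.trans (B.P.F.phi_zero d).symm))
      · rw [hyκ] at e
        exact hdc e.symm
    · exact h1
  have h := B.P.comm_κ hcU hyU
  rw [hb, pw_one, B.hz, commutatorElement_def, inv_eq_of_mul_eq_one_right hc2,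
    inv_eq_of_mul_eq_one_right hy2] at h
  rw [← h, hdi, show (4 : ℕ) = 2 * 2 from rfl, pow_mul, sq, sq]
  group

theorem order_three {b c d : G} (hcb : ∀ x ∈ C.H, b * x = x * b) (hzb : ¬ b * W.F.z = W.F.z * b)
    (hc : c = W.F.v ∨ c = W.F.v * W.F.z) (hd : d ∈ C.H) (hd2 : d * d = 1) (hde : (d * W.u) ^ 3 = 1)
    (hcd : (c * d) ^ 4 = W.F.z) (hb2 : b * b = 1) (hab : (W.F.z * b) ^ 5 = 1) (hbc : (b * c) ^ 3 = 1)
    (hbf : (b * B.P.F.v) ^ 3 = 1) (hbg : (b * B.P.g) ^ 3 = 1)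
    (hf5 : (W.F.z * b * c * B.P.F.v) ^ 5 = 1) (hg5 : (W.F.z * b * c * B.P.g) ^ 5 = 1) :
    ((b * c * d * c * d) ^ 5 * W.u) ^ 3 = 1 := by
  have hcU : c ∈ B.P.UU := by
    rcases hc with rfl | rfl
    · exact B.v_UU
    · exact mul_mem B.v_UU (B.hz ▸ B.P.z_mem_UU)
  obtain ⟨hcz, hcf, hcg⟩ := B.mem_X_iff.1 (B.P.UU_X hcU)
  have hce : c * W.u = W.u * c := by
    have hz : Commute W.F.z W.u := W.uz.symm
    have hv : Commute W.F.v W.u := W.uv.symm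
    rcases hc with rfl | rfl
    · exact hv.eq
    · exact (hv.mul_left hz).eq
  have hc2 : c * c = 1 := by
    rcases hc with rfl | rfl
    · exact W.F.v_sq
    · calc W.F.v * W.F.z * (W.F.v * W.F.z) = W.F.v * (W.F.z * W.F.v) * W.F.z := by group
        _ = W.F.v * (W.F.v * W.F.z) * W.F.z := by rw [W.F.zv]
        _ = 1 := by rw [← mul_assoc W.F.v W.F.v, W.F.v_sq, one_mul, W.F.z_sq]
  have hz2 := W.F.z_sq
  have hcd8 : (c * d) ^ 8 = 1 := by rw [show 8 = 4 * 2 from rfl, pow_mul, hcd, sq, hz2]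
  obtain ⟨w3, wa, wb, wc, wf⟩ := five_facts hz2 hb2 hc2 hd2 B.v_sq hcz.symm (C.comm_z hd).symm
    (B.hz ▸ B.P.F.zv) (hcb d hd) hcf (C.comm_f hd) hab hbc hcd8 hbf hcd hf5
  obtain ⟨-, -, -, -, wg⟩ := five_facts hz2 hb2 hc2 hd2 B.P.hg2 hcz.symm (C.comm_z hd).symm
    (B.hz ▸ B.P.gz.symm) (hcb d hd) hcg (C.comm_g hd) hab hbc hcd8 hbg hcd hg5
  set w := (b * c * d * c * d) ^ 5 with hw
  have hwH : w ∈ C.H := C.mem_of_comm hcb hzb (B.mem_X_iff.2 ⟨wa.eq, wf.eq, wg.eq⟩) wb.eq.symm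
  have hw1 : w ≠ 1 := by
    intro h1
    have hm := twist_mem hz2 hb2 hc2 hd2 W.u_sq hcz.symm (C.comm_z hd).symm W.uz.symm (hcb d hd)
      (hcb _ C.u_mem) hce hab hbc hde hcd (hw.symm.trans h1)
    have hle : Subgroup.closure ({b, d, W.u} : Set G) ≤ twoTimes b C.H hb2 hcb := by
      rw [Subgroup.closure_le]
      rintro y (rfl | rfl | rfl)
      · exact ⟨1, 1, one_mem _, by simp⟩
      · exact ⟨0, y, hd, by simp⟩
      · exact ⟨0, _, C.u_mem, by simp⟩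
    obtain ⟨i, h, hh, e⟩ := hle hm
    rcases z2 i with rfl | rfl
    · rw [pw_zero, one_mul] at e
      exact W.F.z_ne (C.triv _ (e ▸ hh) (B.hQ.symm ▸ W.F.T.data.z_mem))
    · rw [pw_one] at e
      refine hzb ?_
      have e' : b = W.F.z * h⁻¹ := by rw [e, mul_inv_cancel_right]
      conv_lhs => rw [e', mul_assoc, (Commute.inv_left (C.comm_z hh)).eq]
      rw [e']
  have hwD := C.mem_D hwH
  have huD := C.mem_D C.u_mem
  have hfw : B.P.F.phi w (B.P.F.κ c) = B.P.F.κ c := by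
    rw [← B.P.κ_conj (C.le hwH) hcU, mul_inv_eq_iff_eq_mul.2 wc.eq]
  have hfu : B.P.F.phi W.u (B.P.F.κ c) = B.P.F.κ c := by
    rw [← B.P.κ_conj B.u_X hcU, mul_inv_eq_iff_eq_mul.2 hce.symm]
  have hcne : B.P.F.κ c ≠ 0 := by
    rcases hc with rfl | rfl
    · exact B.κ_v_ne
    · have e := B.P.κ_zpw 1 W.F.v (B.P.mem_UU.1 B.v_UU).2
      rw [pw_one, B.hz] at e
      rw [e]; exact B.κ_v_ne
  have hs := List.all_eq_true.mp stab_three (B.P.cd w) (B.P.cd_mem hwD)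
  simp only [Bool.or_eq_true, Bool.not_eq_true', ← Bool.not_eq_true, List.all_eq_true, nbeq_iff] at hs
  have h3 : cubeC (B.P.cd w) = oneC := by
    rw [cubeC, ← B.P.cd_mul hwD hwD, ← B.P.cd_mul hwD (mul_mem hwD hwD), ← sq, ← pow_succ', w3,
      B.P.cd_one]
  have hfin := ((((((((hs.resolve_left fun e => hw1 (C.eq_one hwH e)).resolve_left (not_not.mpr h3))
    (B.P.cd W.u) (B.P.cd_mem huD)).resolve_left fun e => W.u_ne (C.eq_one C.u_mem e)).resolve_left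
      (not_not.mpr (by rw [← B.P.cd_mul huD huD, W.u_sq, B.P.cd_one]))) (enc (B.P.F.κ c))
        (List.mem_range.2 (enc_lt _))).resolve_left
          (fun e => e (singC_enc _ hcne (B.P.qU_κ hcU hc2)))).resolve_left
            (fun e => e (by rw [B.P.cd_app, hfw]))).resolve_left (fun e => e (by rw [B.P.cd_app, hfu]))
  refine C.eq_one (pow_mem (mul_mem hwH C.u_mem) 3) ?_
  have hm : w * W.u ∈ B.P.F.D := mul_mem hwD huD
  rw [← hfin, cubeC, ← B.P.cd_mul hwD huD, ← B.P.cd_mul hm hm, ← B.P.cd_mul hm (mul_mem hm hm),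
    pow_succ', sq]

end Cpl

/-- Seven elements with the relations of the Suzuki group. -/
theorem exists_gens (W : Fu G) (σ : W.L ≃* PL) (hcard : Nat.card {x : W.L // x * x = 1 ∧ x ≠ 1} = 315)
    (hconj : ∀ x y : W.L, x * x = 1 → x ≠ 1 → y * y = 1 → y ≠ 1 → IsConj x y)
    (hno : ∀ {s : G}, s ∈ W.L → s ^ 7 = 1 → s ≠ 1 → ∀ H : Subgroup G, Nat.card H = 60 →
      ¬ ∀ x ∈ H, x * s = s * x) :
    ∃ a b c d e f g : G, a ≠ 1 ∧ a * a = 1 ∧ b * b = 1 ∧ c * c = 1 ∧ d * d = 1 ∧ e * e = 1 ∧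
      f * f = 1 ∧ g * g = 1 ∧ a * c = c * a ∧ a * d = d * a ∧ a * e = e * a ∧ a * f = f * a ∧
      a * g = g * a ∧ b * d = d * b ∧ b * e = e * b ∧ c * e = e * c ∧ c * f = f * c ∧ c * g = g * c ∧
      d * f = f * d ∧ d * g = g * d ∧ e * f = f * e ∧ e * g = g * e ∧ (a * b) ^ 5 = 1 ∧
      (b * c) ^ 3 = 1 ∧ (d * e) ^ 3 = 1 ∧ (b * f) ^ 3 = 1 ∧ (b * g) ^ 3 = 1 ∧ (c * d) ^ 4 = a ∧
      (f * g) ^ 2 = a ∧ (a * b * c * f) ^ 5 = 1 ∧ (b * f * g) ^ 5 = 1 ∧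
      ((b * c * d * c * d) ^ 5 * e) ^ 3 = 1 := by
  classical
  obtain ⟨B⟩ := exists_base W
  obtain ⟨C⟩ := exists_cpl B
  obtain ⟨r1, h1H, h1f, h1z, h12, h11, h1c⟩ := C.exists_refl
  obtain ⟨r2, h2H, h2g, h2z, h22, h21, h2c⟩ := C.symm.exists_refl
  change ∀ x ∈ C.H, r2 * x = x * r2 at h2H
  change r2 * B.P'.F.v = B.P'.F.v * r2 at h2g
  change r2 * W.F.z * r2 = W.F.z * B.P'.F.v at h2z
  rw [B.hv'] at h2g h2z
  have hgc : IsConj W.F.z B.P.g := by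
    rw [← B.hv', ← B.hz']
    exact isConj_iff.2 ⟨B.P'.F.h, rfl⟩
  have hfL := W.zt_mem_L B.zt_f
  have hgL := W.zt_mem_L (⟨W.mem_Cu.2 B.u_comm_g.symm, hgc⟩ : W.Zt B.P.g)
  have h1L := W.zt_mem_L (⟨W.mem_Cu.2 (h1H _ C.u_mem), h1c⟩ : W.Zt r1)
  have h2L := W.zt_mem_L (⟨W.mem_Cu.2 (h2H _ C.u_mem), h2c⟩ : W.Zt r2)
  have hvL : W.F.v ∈ W.L := W.V_le_L ⟨0, 1, W.F.pz_v.symm⟩
  obtain ⟨-, hvf, hvg⟩ := B.mem_X_iff.1 B.v_X
  have hfg := B.fg_sq
  have key := plane_cases σ hcard hconj (f := (⟨_, hfL⟩ : W.L)) (g := ⟨_, hgL⟩) (r1 := ⟨_, h1L⟩)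
    (r2 := ⟨_, h2L⟩) (v := ⟨_, hvL⟩) (Subtype.ext B.v_sq)
    (fun e => B.P.F.v_ne (congrArg Subtype.val e)) (Subtype.ext B.P.hg2)
    (fun e => B.P.g_ne (congrArg Subtype.val e)) (Subtype.ext h12)
    (fun e => h11 (congrArg Subtype.val e)) (Subtype.ext h22) (fun e => h21 (congrArg Subtype.val e))
    (Subtype.ext W.F.v_sq) (fun e => W.F.v_ne (congrArg Subtype.val e))
    (fun e => W.F.z_ne (hfg.symm.trans (congrArg Subtype.val e)))
    (Subtype.ext (by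
      show B.P.F.v * B.P.g * B.P.F.v * B.P.g * (B.P.F.v * B.P.g * B.P.F.v * B.P.g) = 1
      rw [hfg, W.F.z_sq]))
    (Subtype.ext h1f) (Subtype.ext (by
      show r1 * (B.P.F.v * B.P.g * B.P.F.v * B.P.g) * r1 = B.P.F.v * B.P.g * B.P.F.v * B.P.g * B.P.F.v
      rw [hfg, h1z]))
    (Subtype.ext h2g) (Subtype.ext (by
      show r2 * (B.P.F.v * B.P.g * B.P.F.v * B.P.g) * r2 = B.P.F.v * B.P.g * B.P.F.v * B.P.g * B.P.g
      rw [hfg, h2z]))
    (Subtype.ext hvf) (Subtype.ext hvg) (fun e => W.F.v_ne_z ((congrArg Subtype.val e).trans hfg))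
  have hcen : ∀ x ∈ C.H, Commute B.P.F.v x ∧ Commute B.P.g x ∧ Commute r1 x ∧ Commute r2 x :=
    fun x hx => ⟨(C.comm_f hx).symm, (C.comm_g hx).symm, h1H x hx, h2H x hx⟩
  rcases key with ⟨h7, hne⟩ | hB
  · exfalso
    refine hno (s := B.P.F.v * B.P.g * r1 * r2) (mul_mem (mul_mem (mul_mem hfL hgL) h1L) h2L)
      (congrArg Subtype.val h7) (fun e => hne (Subtype.ext e)) C.H C.card fun x hx => ?_
    obtain ⟨a1, a2, a3, a4⟩ := hcen x hx
    exact (((a1.mul_left a2).mul_left a3).mul_left a4).eq.symm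
  set b := B.P.F.v * r1 * B.P.g * r2 * r1 * r2 with hb
  obtain ⟨hb2, hb1, hab, hbf, hbg, hbfg, c, hc, hbc, hcf5, hcg5⟩ := hB
  replace hb2 : b * b = 1 := congrArg Subtype.val hb2
  replace hb1 : b ≠ 1 := fun e => hb1 (Subtype.ext e)
  replace hab : (W.F.z * b) ^ 5 = 1 := by
    have h : (B.P.F.v * B.P.g * B.P.F.v * B.P.g * b) ^ 5 = 1 := congrArg Subtype.val hab
    rwa [hfg] at h
  replace hbf : (b * B.P.F.v) ^ 3 = 1 := congrArg Subtype.val hbf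
  replace hbg : (b * B.P.g) ^ 3 = 1 := congrArg Subtype.val hbg
  replace hbfg : (b * B.P.F.v * B.P.g) ^ 5 = 1 := congrArg Subtype.val hbfg
  replace hbc : (b * (c : G)) ^ 3 = 1 := congrArg Subtype.val hbc
  replace hcf5 : (W.F.z * b * (c : G) * B.P.F.v) ^ 5 = 1 := by
    have h : (B.P.F.v * B.P.g * B.P.F.v * B.P.g * b * (c : G) * B.P.F.v) ^ 5 = 1 :=
      congrArg Subtype.val hcf5
    rwa [hfg] at h
  replace hcg5 : (W.F.z * b * (c : G) * B.P.g) ^ 5 = 1 := by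
    have h : (B.P.F.v * B.P.g * B.P.F.v * B.P.g * b * (c : G) * B.P.g) ^ 5 = 1 :=
      congrArg Subtype.val hcg5
    rwa [hfg] at h
  have hc' : (c : G) = W.F.v ∨ (c : G) = W.F.v * W.F.z := by
    rcases hc with rfl | rfl
    · exact Or.inl rfl
    · exact Or.inr (by show W.F.v * (B.P.F.v * B.P.g * B.P.F.v * B.P.g) = _; rw [hfg])
  have hcb : ∀ x ∈ C.H, b * x = x * b := fun x hx => by
    obtain ⟨a1, a2, a3, a4⟩ := hcen x hx
    exact (((((a1.mul_left a3).mul_left a2).mul_left a4).mul_left a3).mul_left a4).eq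
  have hzb : ¬ b * W.F.z = W.F.z * b := by
    intro h
    have e1 : (W.F.z * b) ^ 2 = 1 := mul_inv_one W.F.z_sq hb2 h.symm
    rw [show 5 = 2 * 2 + 1 from rfl, pow_succ, pow_mul, e1, one_pow, one_mul] at hab
    have hbz : b = W.F.z := by
      rw [← inv_eq_of_mul_eq_one_right hab, inv_eq_of_mul_eq_one_right W.F.z_sq]
    rw [hbz, show 3 = 2 + 1 from rfl, pow_succ, mul_inv_one W.F.z_sq B.v_sq (B.hz ▸ B.P.F.zv),
      one_mul] at hbf
    exact B.P.F.v_ne_z ((inv_eq_of_mul_eq_one_right hbf).symm.trans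
      ((inv_eq_of_mul_eq_one_right W.F.z_sq).trans B.hz.symm))
  obtain ⟨d, hd, hd2, hde, hcd⟩ := C.exists_d hc'
  have hw := C.order_three hcb hzb hc' hd hd2 hde hcd hb2 hab hbc hbf hbg hcf5 hcg5
  obtain ⟨hcz, hcf, hcg⟩ := B.mem_X_iff.1 (show (c : G) ∈ B.P.X by
    rcases hc' with e | e <;> rw [e]
    · exact B.v_X
    · exact mul_mem B.v_X (B.hz ▸ B.P.z_mem_X))
  have hce : (c : G) * W.u = W.u * c := by
    rcases hc' with e | e <;> rw [e]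
    · exact W.uv.symm
    · exact (Commute.mul_left (W.uv.symm : Commute W.F.v W.u) (W.uz.symm : Commute W.F.z W.u)).eq
  have hc2 : (c : G) * c = 1 := by
    rcases hc' with e | e <;> rw [e]
    · exact W.F.v_sq
    · rw [← sq]; exact mul_inv_one W.F.v_sq W.F.z_sq W.F.zv.symm
  refine ⟨W.F.z, b, c, d, W.u, B.P.F.v, B.P.g, W.F.z_ne, W.F.z_sq, hb2, hc2, hd2, W.u_sq, B.v_sq,
    B.P.hg2, hcz.symm, (C.comm_z hd).symm, W.uz.symm, B.hz ▸ B.P.F.zv, B.hz ▸ B.P.gz.symm, hcb d hd,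
    hcb _ C.u_mem, hce, hcf, hcg, C.comm_f hd, C.comm_g hd, B.u_comm_f, B.u_comm_g, hab, hbc, hde,
    hbf, hbg, hcd, ?_, hcf5, hbfg, hw⟩
  rw [sq]
  calc B.P.F.v * B.P.g * (B.P.F.v * B.P.g) = B.P.F.v * B.P.g * B.P.F.v * B.P.g := by group
    _ = _ := hfg

end Cfsg.Agent.SuzUnique
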