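/-
The group presented on five of the generators of the Suzuki group, as a `Setup` (helper16).
Main definitions: `Five.edges`, `Five.extra`, `fiveSetup`, `fiveLetters`.
-/
import Cfsg.Agent.Lib.CosetEnum.Order

set_option autoImplicit false

namespace Cfsg.Agent.SuzUnique
open Cfsg.Agent.CosetEnum

namespace Five

/-- The five generators. -/
inductive Gen
  | a
  | b
  | c
  | d
  | f
  deriving DecidableEq

/-- The generator a as a word. -/ abbrev a : FreeGroup Gen := FreeGroup.of Gen.a
/-- The generator b as a word. -/ abbrev b : FreeGroup Gen := FreeGroup.of Gen.b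
/-- The generator c as a word. -/ abbrev c : FreeGroup Gen := FreeGroup.of Gen.c
/-- The generator d as a word. -/ abbrev d : FreeGroup Gen := FreeGroup.of Gen.d
/-- The generator f as a word. -/ abbrev f : FreeGroup Gen := FreeGroup.of Gen.f

/-- The graph. -/
def edges : List (Gen × ℕ × Gen) :=
  [(.a, 5, .b), (.b, 3, .c), (.c, 8, .d), (.b, 3, .f)]

/-- The further relators. -/
def extra : List (FreeGroup Gen) := [
  a * ((c * d) ^ 4)⁻¹,
  (a * b * c * f) ^ 5 ]

end Five

/-- The setup of the five generator group. -/
def fiveSetup : Setup Five.Gen where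
  edges := Five.edges
  extra := Five.extra
  gens := [.a, .b, .c, .d, .f]
  pos := [0, 1, 2, 3, 4]
  lt := [(.a, true), (.b, true), (.c, true), (.d, true), (.f, true)]

theorem fiveSetup_gens : ∀ x, x ∈ fiveSetup.gens := by intro x; cases x <;> simp [fiveSetup]

/-- The letters of the five generator group. -/
def fiveLetters : Data := letterData 5 [0, 1, 2, 3, 4]

end Cfsg.Agent.SuzUnique
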